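import Cfsg.Agent.Lib.SFreeLocals.Codim
import Cfsg.Agent.Lib.LocalEven.S4Criterion
import Cfsg.Agent.Lib.Transfer.FusionS4

/-!
Sparse actions on elementary abelian 2-subgroups: every elementary action of order `m` moves a
subgroup of index at least `m²`.
-/

set_option autoImplicit false

namespace CfsgLib.SFreeLocals

open Subgroup

universe u

variable {G : Type u} [Group G] [Finite G]

/-- `idx A B` is the index in `B` of the centraliser of `A`. -/
noncomputable def idx (A B : Subgroup G) : ℕ := (centralizer (A : Set G)).relIndex B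

/-- The conjugate of a subgroup. -/
def cj (g : G) (A : Subgroup G) : Subgroup G := A.map (MulAut.conj g).toMonoidHom

theorem mem_cj {g x : G} {A : Subgroup G} : x ∈ cj g A ↔ g⁻¹ * x * g ∈ A :=
  CfsgLib.LocalEven.mem_map_conj

theorem conj_mem_cj {g x : G} {A : Subgroup G} (hx : x ∈ A) : g * x * g⁻¹ ∈ cj g A :=
  CfsgLib.LocalEven.conj_mem_map_conj hx

theorem cj_mono (g : G) {A B : Subgroup G} (h : A ≤ B) : cj g A ≤ cj g B := Subgroup.map_mono h

omit [Finite G] in
theorem cj_cj (g h : G) (A : Subgroup G) : cj g (cj h A) = cj (g * h) A := by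
  unfold cj
  rw [Subgroup.map_map]
  congr 1
  ext x
  show g * (h * x * h⁻¹) * g⁻¹ = g * h * x * (g * h)⁻¹
  group

theorem cj_one (A : Subgroup G) : cj 1 A = A := by
  ext x
  simp [mem_cj]

theorem cj_eq_self {g : G} {A : Subgroup G} (hg : g ∈ normalizer (A : Set G)) : cj g A = A :=
  Subgroup.eq_of_le_of_card_ge (by
    rintro _ ⟨x, hx, rfl⟩; exact CfsgLib.LocalEven.conj_mem_of_mem_normalizer hg hx)
    (CfsgLib.LocalEven.card_map_conj A g).ge

theorem mem_normalizer_of_cj_le {g : G} {A : Subgroup G} (h : cj g A ≤ A) :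
    g ∈ normalizer (A : Set G) := CfsgLib.LocalEven.mem_normalizer_of_conj_le h

theorem cj_centralizer (g : G) (A : Subgroup G) :
    centralizer ((cj g A : Subgroup G) : Set G) = cj g (centralizer (A : Set G)) := by
  ext x
  rw [mem_cj, mem_centralizer_iff, mem_centralizer_iff]
  constructor
  · intro h a ha
    have h1 := h _ (conj_mem_cj (g := g) ha)
    calc a * (g⁻¹ * x * g) = g⁻¹ * ((g * a * g⁻¹) * x) * g := by group
      _ = g⁻¹ * (x * (g * a * g⁻¹)) * g := by rw [h1]
      _ = g⁻¹ * x * g * a := by group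
  · intro h a ha
    have h1 := h _ (mem_cj.1 ha)
    calc a * x = g * ((g⁻¹ * a * g) * (g⁻¹ * x * g)) * g⁻¹ := by group
      _ = g * ((g⁻¹ * x * g) * (g⁻¹ * a * g)) * g⁻¹ := by rw [h1]
      _ = x * a := by group

theorem idx_cj (g : G) (A B : Subgroup G) : idx (cj g A) (cj g B) = idx A B := by
  unfold idx
  rw [cj_centralizer]
  exact Subgroup.relIndex_map_map_of_injective _ _ (MulAut.conj g).injective

theorem idx_eq_one_iff {A B : Subgroup G} : idx A B = 1 ↔ B ≤ centralizer (A : Set G) :=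
  Subgroup.relIndex_eq_one

theorem idx_pos (A B : Subgroup G) : 0 < idx A B :=
  Nat.pos_of_ne_zero Subgroup.index_ne_zero_of_finite

theorem relIndex_ne (A B : Subgroup G) : A.relIndex B ≠ 0 := Subgroup.index_ne_zero_of_finite

/-- Index bookkeeping through an intermediate subgroup. -/
theorem relIndex_le_mul (K L B : Subgroup G) (hLB : L ≤ B) :
    K.relIndex B ≤ K.relIndex L * L.relIndex B := by
  have h1 : (K ⊓ L).relIndex B = K.relIndex L * L.relIndex B := by
    rw [← Subgroup.inf_relIndex_right K L]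
    exact (Subgroup.relIndex_mul_relIndex _ _ _ inf_le_right hLB).symm
  rw [← h1]
  exact Subgroup.relIndex_le_of_le_left inf_le_left (relIndex_ne _ _)

/-- Elementary actions of order `m` on `V` by subgroups of `E` move a subgroup of index at least `m²`. -/
def Sparse (V E : Subgroup G) : Prop :=
  ∀ F : Subgroup G, F ≤ E → F ≤ normalizer (V : Set G) →
    (∀ x ∈ F, x * x ∈ centralizer (V : Set G)) → idx V F * idx V F ≤ idx F V

theorem Sparse.mono {V E E' : Subgroup G} (h : Sparse V E) (hE : E' ≤ E) : Sparse V E' :=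
  fun F hF => h F (hF.trans hE)

theorem Sparse.cj {V E : Subgroup G} (h : Sparse V E) {g : G} (hg : g ∈ normalizer (E : Set G)) :
    Sparse (CfsgLib.SFreeLocals.cj g V) E := by
  intro F hF hFn hsq
  have hF' : F = CfsgLib.SFreeLocals.cj g (CfsgLib.SFreeLocals.cj g⁻¹ F) := by
    rw [cj_cj, mul_inv_cancel, cj_one]
  set F' := CfsgLib.SFreeLocals.cj g⁻¹ F
  rw [hF', idx_cj, idx_cj]
  refine h F' ((cj_mono _ hF).trans (le_of_eq (cj_eq_self (inv_mem hg)))) ?_ ?_
  · intro x hx
    have hgx : g * x * g⁻¹ ∈ F := by rw [hF']; exact conj_mem_cj hx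
    refine mem_normalizer_of_cj_le ?_
    intro v hv
    have hv' := mem_cj.1 hv
    have h1 := CfsgLib.LocalEven.conj_mem_of_mem_normalizer (hFn hgx) (conj_mem_cj (g := g) hv')
    rw [mem_cj] at h1
    simpa [mul_assoc] using h1
  · intro x hx
    have hgx : g * x * g⁻¹ ∈ F := by rw [hF']; exact conj_mem_cj hx
    have h1 := hsq _ hgx
    rw [cj_centralizer, mem_cj] at h1
    simpa [mul_assoc] using h1

theorem Sparse.sup {Y Z E : Subgroup G} (hY : Sparse Y E) (hZ : Sparse Z E)
    (hEY : E ≤ normalizer (Y : Set G)) (hEZ : E ≤ normalizer (Z : Set G))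
    : Sparse (Y ⊔ Z) E := by
  intro F hF hFn hsq
  set K := F ⊓ centralizer (Z : Set G) with hK
  have hCY : centralizer ((Y ⊔ Z : Subgroup G) : Set G) ≤ centralizer (Y : Set G) :=
    centralizer_le (SetLike.coe_subset_coe.2 le_sup_left)
  have hCZ : centralizer ((Y ⊔ Z : Subgroup G) : Set G) ≤ centralizer (Z : Set G) :=
    centralizer_le (SetLike.coe_subset_coe.2 le_sup_right)
  have h1 := hY K (inf_le_left.trans hF) (inf_le_left.trans (hF.trans hEY))
    fun x hx => hCY (hsq x hx.1)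
  have h2 := hZ F hF (hF.trans hEZ) fun x hx => hCZ (hsq x hx)
  -- the action
  have hC : centralizer ((Y ⊔ Z : Subgroup G) : Set G) ⊓ F ≤ K :=
    le_inf inf_le_right (inf_le_left.trans hCZ)
  have hKeq : centralizer ((Y ⊔ Z : Subgroup G) : Set G) ⊓ K = centralizer (Y : Set G) ⊓ K := by
    refine le_antisymm (inf_le_inf_right _ hCY) (le_inf ?_ inf_le_right)
    intro x hx
    have hle : Y ⊔ Z ≤ centralizer ({x} : Set G) :=
      sup_le (fun y hy => mem_centralizer_singleton_iff.2 (mem_centralizer_iff.1 hx.1 y hy))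
        (fun y hy => mem_centralizer_singleton_iff.2 (mem_centralizer_iff.1 hx.2.2 y hy))
    exact mem_centralizer_iff.2 fun y hy => mem_centralizer_singleton_iff.1 (hle hy)
  have e1 : idx (Y ⊔ Z) F = idx Y K * idx Z F := by
    unfold idx
    rw [← Subgroup.inf_relIndex_right, ← Subgroup.relIndex_mul_relIndex _ K F hC inf_le_left]
    congr 1
    · rw [show centralizer ((Y ⊔ Z : Subgroup G) : Set G) ⊓ F =
          centralizer ((Y ⊔ Z : Subgroup G) : Set G) ⊓ K from
          le_antisymm (le_inf inf_le_left hC) (inf_le_inf_left _ inf_le_left), hKeq,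
        Subgroup.inf_relIndex_right]
    · rw [hK, inf_comm, Subgroup.inf_relIndex_right]
  -- the moved part
  have hFK : centralizer (F : Set G) ≤ centralizer (K : Set G) :=
    centralizer_le (SetLike.coe_subset_coe.2 inf_le_left)
  set M := centralizer (K : Set G) ⊓ (Y ⊔ Z) with hM
  have e2 : (centralizer (F : Set G)).relIndex M * (centralizer (K : Set G)).relIndex (Y ⊔ Z) =
      idx F (Y ⊔ Z) := by
    unfold idx
    rw [← Subgroup.inf_relIndex_right (centralizer (F : Set G)) (Y ⊔ Z)]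
    rw [← Subgroup.relIndex_mul_relIndex (centralizer (F : Set G) ⊓ (Y ⊔ Z)) M (Y ⊔ Z)
      (inf_le_inf_right _ hFK) inf_le_right]
    congr 1
    · rw [← Subgroup.inf_relIndex_right (centralizer (F : Set G)) M]
      congr 1
      exact le_antisymm (le_inf inf_le_left (inf_le_right.trans inf_le_right))
        (le_inf inf_le_left (inf_le_inf_right _ hFK))
    · rw [hM, Subgroup.inf_relIndex_right]
  have hZM : Z ≤ M := le_inf (fun z hz => mem_centralizer_iff.2 fun k hk =>
    (mem_centralizer_iff.1 (show k ∈ centralizer (Z : Set G) from (hK ▸ hk : k ∈ K).2) z hz).symm)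
    le_sup_right
  have h3 : idx F Z ≤ (centralizer (F : Set G)).relIndex M :=
    Subgroup.relIndex_le_of_le_right hZM (relIndex_ne _ _)
  have h4 : idx K Y ≤ (centralizer (K : Set G)).relIndex (Y ⊔ Z) :=
    Subgroup.relIndex_le_of_le_right le_sup_left (relIndex_ne _ _)
  rw [e1, ← e2]
  calc idx Y K * idx Z F * (idx Y K * idx Z F) = idx Z F * idx Z F * (idx Y K * idx Y K) := by ring
    _ ≤ _ := Nat.mul_le_mul (h2.trans h3) (h1.trans h4)

/-- An element inverted by `a` centralises a subgroup on which `a` fixes a hyperplane modulo `R`. -/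
theorem fixed_of_hyperplane {V : Subgroup G} (hV : ∀ v ∈ V, v * v = 1) {a y : G}
    (haV : a ∈ normalizer (V : Set G)) (hyV : y ∈ normalizer (V : Set G))
    (ha : a * a ∈ centralizer (V : Set G)) (hinv : a * y * a⁻¹ = y⁻¹) (hy : Odd (orderOf y))
    (h3 : ¬ 3 ∣ orderOf y) (U R D : Subgroup G) (hUV : U ≤ V) (hRV : R ≤ V)
    (hRy : ∀ r ∈ R, y * r * y⁻¹ = r) (hRa : ∀ r ∈ R, a * r * a⁻¹ ∈ R)
    (haU : ∀ u ∈ U, a * u * a⁻¹ ∈ U) (hyU : ∀ u ∈ U, y * u * y⁻¹ ∈ U)
    (hD : ∀ u, u ∈ D ↔ u ∈ U ∧ a * u * a⁻¹ * u ∈ R) (hidx : D.relIndex U ≤ 2) :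
    ∀ u ∈ U, y * u * y⁻¹ = u := by
  set φ := Subgroup.normalizerMonoidHom V
  set a' := φ ⟨a, haV⟩ with ha'
  set y' := φ ⟨y, hyV⟩ with hy'
  have hdvd : orderOf y' ∣ orderOf y := by
    rw [hy', ← Subgroup.orderOf_mk y hyV]
    exact orderOf_map_dvd φ _
  have hyo : Odd (orderOf y') := hy.of_dvd_nat hdvd
  have hy3 : ¬ 3 ∣ orderOf y' := fun h => h3 (h.trans hdvd)
  have ha2 : a' * a' = 1 := by
    ext v
    rw [ha', ← map_mul]
    show a * a * (v : G) * (a * a)⁻¹ = v
    rw [(mem_centralizer_iff.1 ha v v.2).symm, mul_inv_cancel_right]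
  have hinv' : a' * y' * a'⁻¹ = y'⁻¹ := by
    rw [ha', hy', ← map_inv, ← map_mul, ← map_mul, ← map_inv]
    congr 1
    exact Subtype.ext hinv
  have hDU : D ≤ U := fun u hu => ((hD u).1 hu).1
  have h := fixed_of_transvection (V := ↥V) (fun v => Subtype.ext (hV v v.2)) ha2 hinv' hyo hy3
    (U.subgroupOf V) (R.subgroupOf V) (D.subgroupOf V)
    (fun r hr => Subtype.ext (hRy r hr)) (fun r hr => hRa r hr) (fun u hu => haU u hu)
    (fun u hu => hyU u hu)
    (fun u => ⟨fun hu => ⟨((hD u).1 hu).1, ((hD u).1 hu).2⟩, fun hu => (hD u).2 ⟨hu.1, hu.2⟩⟩)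
    (by rw [Subgroup.relIndex_subgroupOf hUV]; exact hidx)
  intro u hu
  exact congrArg Subtype.val (h ⟨u, hUV hu⟩ hu)

/-- Sparse actions in a solvable section with trivial 2-core and without a section `S₄`. -/
theorem sparse_of_solvable {V N : Subgroup G} [Group.IsSolvable ↥N] (hV : ∀ v ∈ V, v * v = 1)
    (hVN : V ≤ N) (hN : N ≤ normalizer (V : Set G))
    (hS4 : ¬ Cfsg.Involves (Equiv.Perm (Fin 4)) ↥N)
    (hred : Cfsg.pCore 2 ↥(((Subgroup.normalizerMonoidHom V).comp (inclusion hN)).range) = ⊥) :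
    Sparse V N := by
  intro F hFN hFV hsq
  have : Fact (Nat.Prime 2) := ⟨Nat.prime_two⟩
  have : Fact (Nat.Prime 3) := ⟨Nat.prime_three⟩
  set f := (Subgroup.normalizerMonoidHom V).comp (inclusion hN) with hf
  have hsol : Group.IsSolvable ↥f.range :=
    Group.isSolvable_of_surjective (f := f.rangeRestrict) f.rangeRestrict_surjective
  have hVs : ∀ v : ↥V, v * v = 1 := fun v => Subtype.ext (hV v v.2)
  have h3 : ∀ a ∈ f.range, ∀ y ∈ f.range, a * a = 1 → a * y * a⁻¹ = y⁻¹ → y ^ 3 = 1 → y = 1 := by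
    rintro _ ⟨t, rfl⟩ _ ⟨c, rfl⟩ _ hinv hc3
    by_contra hne
    obtain ⟨x, y, hx, hy, hfy, hxy⟩ := CfsgLib.Transfer.exists_inverted_lift (q := 3) (by decide) f
      (t := t) (c := c) ⟨1, by rw [pow_one]; exact orderOf_eq_prime hc3 hne⟩ hne hinv
    apply hS4
    have hel : Cfsg.IsElementaryAbelian 2 (V.subgroupOf N) :=
      ⟨⟨⟨fun p q => by
        apply Subtype.ext; apply Subtype.ext
        have h0 : ((p : ↥N) : G) * ((q : ↥N) : G) = ((q : ↥N) : G) * ((p : ↥N) : G) :=
          congrArg Subtype.val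
            (comm_of_sq hVs ⟨((p : ↥N) : G), p.2⟩ ⟨((q : ↥N) : G), q.2⟩)
        exact h0⟩⟩,
       fun p hp => Subtype.ext (by simpa [pow_two] using hV _ hp)⟩
    have hnorm : ∀ z : ↥N, z ∈ normalizer ((V.subgroupOf N : Subgroup ↥N) : Set ↥N) := fun z =>
      CfsgLib.LocalEven.mem_normalizer_of_conj_le (by
        rintro _ ⟨v, hv, rfl⟩
        exact (show (z : G) * (v : G) * (z : G)⁻¹ ∈ V from
          CfsgLib.LocalEven.conj_mem_of_mem_normalizer (hN z.2) hv))
    refine CfsgLib.LocalEven.S4Crit.involves_of_elementary hel (hnorm x) (hnorm y) hx hy hxy ?_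
    by_contra hall
    push Not at hall
    refine hfy ?_
    ext v
    have h0 := congrArg Subtype.val (hall ⟨v, hVN v.2⟩ v.2)
    exact h0
  set E := (F.subgroupOf N).map f with hE
  have hEle : E ≤ f.range := Subgroup.map_le_range _ _
  have hE2 : ∀ e ∈ E, e * e = 1 := by
    rintro _ ⟨x, hx, rfl⟩
    ext v
    rw [← map_mul]
    show (x : G) * x * (v : G) * ((x : G) * x)⁻¹ = v
    rw [(mem_centralizer_iff.1 (hsq x hx) v v.2).symm, mul_inv_cancel_right]
  have h := sq_card_le hVs hred h3 (Nat.card E) E hEle hE2 le_rfl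
  have hker : f.ker = (centralizer (V : Set G)).subgroupOf N := by
    ext x
    rw [MonoidHom.mem_ker, mem_subgroupOf, mem_centralizer_iff]
    constructor
    · intro hx v hv
      have h0 := DFunLike.congr_fun hx (⟨v, hv⟩ : ↥V)
      have : (x : G) * v * (x : G)⁻¹ = v := congrArg Subtype.val h0
      exact (mul_inv_eq_iff_eq_mul.1 this).symm
    · intro hx
      ext v
      show (x : G) * (v : G) * (x : G)⁻¹ = v
      exact mul_inv_eq_iff_eq_mul.2 (hx v v.2).symm
  have hcard : Nat.card E = idx V F := by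
    rw [hE, ← Subgroup.relIndex_ker, hker, Subgroup.relIndex_subgroupOf hFN]; rfl
  have hfix : fixPts E = (centralizer (F : Set G)).subgroupOf V := by
    ext v
    rw [mem_fixPts, mem_subgroupOf, mem_centralizer_iff]
    constructor
    · intro hv x hx
      have : x * (v : G) * x⁻¹ = v :=
        congrArg Subtype.val (hv _ ⟨⟨x, hFN hx⟩, hx, rfl⟩)
      exact mul_inv_eq_iff_eq_mul.1 this
    · rintro hv _ ⟨x, hx, rfl⟩
      apply Subtype.ext
      show (x : G) * (v : G) * (x : G)⁻¹ = v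
      exact mul_inv_eq_iff_eq_mul.2 (hv x hx)
  rw [hcard, hfix] at h
  exact h

end CfsgLib.SFreeLocals
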