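import Cfsg.Agent.Lib.SFreeLocals.Linear

/-!
The index of the fixed points of an elementary abelian 2-group of automorphisms is at least the
square of its order, in a solvable group with trivial 2-core and no inverted element of order three.
-/

set_option autoImplicit false

namespace CfsgLib.SFreeLocals

open Subgroup

universe u

variable {V : Type u} [Group V] [Finite V]

theorem not_three_dvd {X : Type*} [Group X] [Finite X] {a y : X} (hinv : a * y * a⁻¹ = y⁻¹)
    (h3 : ∀ k : ℕ, a * y ^ k * a⁻¹ = (y ^ k)⁻¹ → (y ^ k) ^ 3 = 1 → y ^ k = 1) :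
    ¬ 3 ∣ orderOf y := by
  rintro ⟨k, hk⟩
  have hk0 : 0 < k := Nat.pos_of_ne_zero fun h => (orderOf_pos y).ne' (by rw [hk, h, mul_zero])
  have h1 := h3 k (by rw [← conj_pow, hinv, inv_pow])
    (by rw [← pow_mul, mul_comm, ← hk, pow_orderOf_eq_one])
  have := Nat.le_of_dvd hk0 (orderOf_dvd_of_pow_eq_one h1)
  omega

theorem sq_card_le (hV : ∀ v : V, v * v = 1) {H : Subgroup (MulAut V)} [Group.IsSolvable ↥H]
    (hO : Cfsg.pCore 2 ↥H = ⊥)
    (h3 : ∀ a ∈ H, ∀ y ∈ H, a * a = 1 → a * y * a⁻¹ = y⁻¹ → y ^ 3 = 1 → y = 1) (n : ℕ) :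
    ∀ E : Subgroup (MulAut V), E ≤ H → (∀ e ∈ E, e * e = 1) → Nat.card E ≤ n →
      Nat.card E * Nat.card E ≤ (fixPts E).index := by
  classical
  have : Fact (Nat.Prime 2) := ⟨Nat.prime_two⟩
  induction n with
  | zero => intro E _ _ h; exact absurd h (not_le.2 Nat.card_pos)
  | succ n ih =>
  intro E hEH hE hn
  have hEc : ∀ e ∈ E, ∀ f ∈ E, e * f = f * e := fun e he f hf => by
    have h := inv_eq_of_mul_eq_one_right (hE _ (mul_mem he hf))
    rw [mul_inv_rev, inv_eq_of_mul_eq_one_right (hE e he), inv_eq_of_mul_eq_one_right (hE f hf)] at h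
    exact h.symm
  by_cases hE1 : E = ⊥
  · rw [hE1, Subgroup.card_bot, one_mul]
    exact Nat.one_le_iff_ne_zero.2 Subgroup.index_ne_zero_of_finite
  set P : Subgroup (MulAut V) := (Cfsg.pPrimeCore 2 ↥H).map H.subtype with hPdef
  have hPH : P ≤ H := Subgroup.map_subtype_le _
  have hPodd : Odd (Nat.card P) := by
    rw [hPdef, Subgroup.card_map_of_injective H.subtype_injective]
    exact Nat.coprime_two_right.1 (CfsgLib.Cores.coprime_card_pPrimeCore 2)
  have hHP : H ≤ normalizer (P : Set (MulAut V)) := by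
    have := CfsgLib.Cores.pPrimeCore_characteristic (G := ↥H) 2
    intro h hh
    refine CfsgLib.LocalEven.mem_normalizer_of_conj_le ?_
    rintro _ ⟨x, hx, rfl⟩
    obtain ⟨z, hz, rfl⟩ := hx
    exact ⟨⟨h, hh⟩ * z * ⟨h, hh⟩⁻¹,
      (Subgroup.normal_of_characteristic (Cfsg.pPrimeCore 2 ↥H)).conj_mem z hz _, rfl⟩
  have hfaith : ∀ e ∈ E, (∀ p ∈ P, e * p = p * e) → e = 1 := by
    intro e he hc
    have h1 : (⟨e, hEH he⟩ : ↥H) ∈ centralizer (Cfsg.pPrimeCore 2 ↥H : Set ↥H) :=
      mem_centralizer_iff.2 fun x hx => Subtype.ext (hc _ ⟨x, hx, rfl⟩).symm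
    have h2 := CfsgLib.LocalEven.Offender.centralizer_pPrimeCore_le_of_pCore_eq_bot hO h1
    rw [← orderOf_eq_one_iff]
    refine Nat.eq_one_of_dvd_coprimes (Nat.coprime_two_right.2 hPodd) ?_
      (orderOf_dvd_of_pow_eq_one (by rw [pow_two]; exact hE e he))
    exact Subgroup.orderOf_dvd_natCard _ (show e ∈ P from ⟨_, h2, rfl⟩)
  obtain ⟨E₀, hE₀, e, he, hEe, z, hzP, hzi, hzc, hz1⟩ : ∃ E₀ : Subgroup (MulAut V), E₀ ≤ E ∧
      ∃ e ∈ E, E ≤ E₀ ⊔ zpowers e ∧ ∃ z ∈ P, e * z * e⁻¹ = z⁻¹ ∧ (∀ f ∈ E₀, f * z = z * f) ∧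
        z ≠ 1 := by
    by_contra hno
    push Not at hno
    apply hE1
    rw [eq_bot_iff]
    intro f hf
    have hle : P ≤ centralizer (E : Set (MulAut V)) := by
      refine le_of_inverted hE hEc (hEH.trans hHP) hPodd
        (fun r _ h => mem_centralizer_iff.2 h) ?_
      intro E₀ hE₀ e he hEe z hz hzi hzc
      rw [hno E₀ hE₀ e he hEe z hz hzi hzc]
      exact one_mem _
    exact Subgroup.mem_bot.2 (hfaith f hf fun p hp => mem_centralizer_iff.1 (hle hp) f hf)
  have hzodd : Odd (orderOf z) := hPodd.of_dvd_nat (Subgroup.orderOf_dvd_natCard _ hzP)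
  have hz3 : ¬ 3 ∣ orderOf z := not_three_dvd hzi fun k hk hk3 =>
    h3 e (hEH he) _ (pow_mem (hPH hzP) k) (hE e he) hk hk3
  have hne : ¬ E ≤ E₀ := by
    intro h
    have h2 : e * z * e⁻¹ = z := by rw [hzc e (h he), mul_inv_cancel_right]
    rw [hzi] at h2
    apply hz1
    rw [← orderOf_eq_one_iff]
    exact Nat.eq_one_of_dvd_coprimes (Nat.coprime_two_left.2 hzodd)
      (orderOf_dvd_of_pow_eq_one (by rw [pow_two]; exact mul_eq_one_iff_eq_inv.2 h2.symm)) dvd_rfl
  have hcard : Nat.card E₀ < Nat.card E :=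
    lt_of_le_of_ne (Subgroup.card_le_of_le hE₀) fun h =>
      hne (Subgroup.eq_of_le_of_card_ge hE₀ h.ge).ge
  have hE2 : Nat.card E ≤ 2 * Nat.card E₀ := by
    have hs : ∀ x ∈ E, x ∈ E₀ ∨ x * e ∈ E₀ := by
      let T : Subgroup (MulAut V) :=
        { carrier := {x | x ∈ E ∧ (x ∈ E₀ ∨ x * e ∈ E₀)}
          one_mem' := ⟨one_mem _, Or.inl (one_mem _)⟩
          mul_mem' := by
            rintro a b ⟨ha, ha'⟩ ⟨hb, hb'⟩
            refine ⟨mul_mem ha hb, ?_⟩
            rcases ha' with ha' | ha' <;> rcases hb' with hb' | hb'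
            · exact Or.inl (mul_mem ha' hb')
            · exact Or.inr (by rw [mul_assoc]; exact mul_mem ha' hb')
            · refine Or.inr ?_
              rw [mul_assoc, hEc b hb e he, ← mul_assoc]
              exact mul_mem ha' hb'
            · refine Or.inl ?_
              have h := mul_mem ha' hb'
              have heq : a * e * (b * e) = a * b := by
                rw [mul_assoc, ← mul_assoc e, hEc e he b hb, mul_assoc b, hE e he, mul_one]
              rwa [heq] at h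
          inv_mem' := by
            rintro a ⟨ha, ha'⟩
            have : a⁻¹ = a := inv_eq_of_mul_eq_one_right (hE a ha)
            rw [Set.mem_ofPred_eq, this]
            exact ⟨ha, ha'⟩ }
      have hT : E₀ ⊔ zpowers e ≤ T :=
        sup_le (fun x hx => ⟨hE₀ hx, Or.inl hx⟩)
          (zpowers_le.2 ⟨he, Or.inr (by rw [hE e he]; exact one_mem _)⟩)
      exact fun x hx => (hT (hEe hx)).2
    have hsub : (E : Set (MulAut V)) ⊆ (E₀ : Set _) ∪ (fun x => x * e) '' (E₀ : Set _) := fun x hx => by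
      rcases hs x hx with h | h
      · exact Or.inl h
      · exact Or.inr ⟨x * e, h, by simp [mul_assoc, hE e he]⟩
    have h1 := (Set.ncard_le_ncard hsub (Set.toFinite _)).trans (Set.ncard_union_le _ _)
    rw [Set.ncard_image_of_injective _ (mul_left_injective e)] at h1
    simp only [← Nat.card_coe_set_eq, SetLike.coe_sort_coe] at h1
    omega
  have hI := ih E₀ (hE₀.trans hEH) (fun x hx => hE x (hE₀ hx)) (by omega)
  have hle : fixPts E ≤ fixPts E₀ := fun v hv x hx => hv x (hE₀ hx)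
  have hrel := Subgroup.relIndex_mul_index hle
  have h4 : 3 ≤ (fixPts E).relIndex (fixPts E₀) := by
    by_contra h
    have hfe : ∀ v ∈ fixPts E₀, e v ∈ fixPts E₀ := fun v hv x hx => by
      rw [← MulAut.mul_apply, hEc x (hE₀ hx) e he, MulAut.mul_apply, hv x hx]
    have hfz : ∀ v ∈ fixPts E₀, z v ∈ fixPts E₀ := fun v hv x hx => by
      rw [← MulAut.mul_apply, hzc x hx, MulAut.mul_apply, hv x hx]
    have hD : ∀ v, v ∈ fixPts E ↔ v ∈ fixPts E₀ ∧ e v * v ∈ (⊥ : Subgroup V) := fun v => by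
      rw [Subgroup.mem_bot]
      constructor
      · exact fun hv => ⟨hle hv, by rw [hv e he, hV]⟩
      · rintro ⟨hv, hv'⟩ x hx
        have hev : e v = v := (mul_eq_one_iff_eq_inv.1 hv').trans (inv_eq_of_mul_eq_one_right (hV v))
        have hstab : E₀ ⊔ zpowers e ≤ MulAction.stabilizer (MulAut V) v :=
          sup_le (fun f hf => hv f hf) (zpowers_le.2 hev)
        exact hstab (hEe hx)
    have hfix := fixed_of_transvection hV (hE e he) hzi hzodd hz3 (fixPts E₀) ⊥ (fixPts E)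
      (fun r hr => by rw [Subgroup.mem_bot.1 hr, map_one])
      (fun r hr => by rw [Subgroup.mem_bot.1 hr, map_one]; exact one_mem _) hfe hfz hD (by omega)
    exact hz1 (eq_one_of_fix hV
      (fun ⟨x, hx⟩ => ⟨1, Subtype.ext (by simpa [pow_two] using hE x (hE₀ hx))⟩) hzodd hzc hfix)
  have h4' : 4 ≤ (fixPts E).relIndex (fixPts E₀) := by
    rcases Nat.lt_or_ge 3 ((fixPts E).relIndex (fixPts E₀)) with h | h
    · omega
    · exfalso
      have hd : (fixPts E).relIndex (fixPts E₀) ∣ Nat.card ↥(fixPts E₀) := Subgroup.relIndex_dvd_card _ _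
      have hp : IsPGroup 2 ↥(fixPts E₀) := fun v => ⟨1, Subtype.ext (by simpa [pow_two] using hV (v : V))⟩
      obtain ⟨k, hk⟩ := IsPGroup.iff_card.1 hp
      rw [show (fixPts E).relIndex (fixPts E₀) = 3 by omega, hk] at hd
      exact absurd (Nat.prime_three.dvd_of_dvd_pow hd) (by decide)
  calc Nat.card E * Nat.card E ≤ 4 * (Nat.card E₀ * Nat.card E₀) := by
        have := Nat.mul_le_mul hE2 hE2
        linarith
    _ ≤ (fixPts E).relIndex (fixPts E₀) * (fixPts E₀).index := Nat.mul_le_mul h4' hI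
    _ = _ := hrel

end CfsgLib.SFreeLocals
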