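import Cfsg.Agent.Lib.SFreeLocals.Thompson
import Cfsg.Agent.Lib.Solvable.CoprimeAction

/-!
In a solvable group of characteristic two without a section `S₄`, a subgroup with a sparse action
that is normalised by the normaliser of the Thompson subgroup is normal.
-/

set_option autoImplicit false

namespace CfsgLib.SFreeLocals

open Subgroup Cfsg
open scoped commutatorElement

universe u

variable {G : Type u} [Group G] [Finite G]

/-- `L` has a normal subgroup inside `S` containing its centraliser. -/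
def HasCore (L S : Subgroup G) : Prop :=
  ∃ Q : Subgroup G, Q ≤ S ∧ L ≤ normalizer (Q : Set G) ∧ L ⊓ centralizer (Q : Set G) ≤ Q

theorem relIndex_le_two_of_cover {H X : Subgroup G} {a : G} (ha : a ∈ X)
    (h : ∀ x ∈ X, x ∈ H ∨ a⁻¹ * x ∈ H) : H.relIndex X ≤ 2 := by
  have hs : Function.Surjective
      (fun i : Fin 2 => (((⟨a, ha⟩ : ↥X) ^ (i : ℕ) : ↥X) : ↥X ⧸ H.subgroupOf X)) := by
    intro q
    induction q using Quotient.inductionOn' with
    | h x =>
      rcases h x x.2 with hx | hx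
      · exact ⟨0, QuotientGroup.eq.2 (by simpa [mem_subgroupOf] using hx)⟩
      · exact ⟨1, QuotientGroup.eq.2 (by simpa [mem_subgroupOf] using hx)⟩
  have := Nat.card_le_card_of_surjective _ hs
  rw [Nat.card_eq_fintype_card (α := Fin 2), Fintype.card_fin] at this
  exact this

theorem le_normalizer_aux (n : ℕ) : ∀ (L S W : Subgroup G), Nat.card L ≤ n → Group.IsSolvable ↥L →
    ¬ Involves (Equiv.Perm (Fin 4)) ↥L → HasCore L S → IsPGroup 2 S → S ≤ L → Odd (S.relIndex L) →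
    (∀ v ∈ W, v * v = 1) → W ≤ S → S ≤ normalizer (W : Set G) → Sparse W S →
    W ≤ centralizer (jTwo S : Set G) → L ⊓ normalizer (jTwo S : Set G) ≤ normalizer (W : Set G) →
    L ≤ normalizer (W : Set G) := by
  induction n with
  | zero => intro L S W h; exact absurd h (not_le.2 Nat.card_pos)
  | succ n ih =>
  intro L S W hn hsol hS4 hcore hS hSL hodd hW hWS hSW hsp hWJ hNJ
  classical
  have : Fact (Nat.Prime 2) := ⟨Nat.prime_two⟩
  have hIH : ∀ M : Subgroup G, S ≤ M → M ≤ L → M ≠ L → M ≤ normalizer (W : Set G) := by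
    intro M hSM hML hne
    have hlt : Nat.card M < Nat.card L :=
      lt_of_le_of_ne (Subgroup.card_le_of_le hML) fun h => hne (Subgroup.eq_of_le_of_card_ge hML h.ge)
    refine ih M S W (by omega) (CfsgLib.Solvable.isSolvable_of_le hsol hML)
      (fun h => hS4 (CfsgLib.LocalEven.Offender.involves_of_injective (inclusion hML)
        (Subgroup.inclusion_injective hML) h))
      ?_ hS hSM ?_ hW hWS hSW hsp hWJ ((inf_le_inf_right _ hML).trans hNJ)
    · obtain ⟨Q, h1, h2, h3⟩ := hcore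
      exact ⟨Q, h1, hML.trans h2, (inf_le_inf_right _ hML).trans h3⟩
    · refine Odd.of_dvd_nat hodd ?_
      rw [← Subgroup.relIndex_mul_relIndex S M L hSM hML]
      exact dvd_mul_right _ _
  by_contra hLW
  -- work inside `L`
  obtain ⟨Qc, hQcS, hLQc, hCQc⟩ := hcore
  set M1 : Subgroup ↥L := (normalizer (W : Set G)).subgroupOf L with hM1
  set K0 := M1.normalCore with hK0
  set S' : Sylow 2 ↥L := (hS.of_equiv (subgroupOfEquivOfLe hSL).symm).toSylow (p := 2) (by
    intro h2; exact Nat.not_even_iff_odd.2 hodd (even_iff_two_dvd.2 h2)) with hS'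
  have hS'eq : (S' : Subgroup ↥L) = S.subgroupOf L := rfl
  have hSM1 : (S' : Subgroup ↥L) ≤ M1 := fun x hx => hSW hx
  have hK0M1 : K0 ≤ M1 := Subgroup.normalCore_le _
  have hmax : ∀ X : Subgroup ↥L, (S' : Subgroup ↥L) ≤ X → X ≠ ⊤ → X ≤ M1 := by
    intro X hSX hX x hx
    have h := hIH (X.map L.subtype) (fun s hs => ⟨⟨s, hSL hs⟩, hSX (show s ∈ S from hs), rfl⟩)
      (Subgroup.map_subtype_le _) (fun h => hX (eq_top_iff.2 fun y _ => by
        obtain ⟨z, hz, hzy⟩ := h.ge y.2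
        rwa [← Subtype.ext hzy]))
    exact h ⟨x, hx, rfl⟩
  have hM1top : M1 ≠ ⊤ := fun h => hLW fun x hx => (h.ge (mem_top (⟨x, hx⟩ : ↥L)) : _)
  set T : Subgroup ↥L := (S' : Subgroup ↥L) ⊓ K0 with hT
  have hTS : T ≤ (S' : Subgroup ↥L) := inf_le_left
  obtain ⟨T', hT'⟩ := CfsgLib.Transfer.exists_sylow_map_eq_inf K0 S'
  have hTn : T.Normal := by
    rw [← Subgroup.normalizer_eq_top_iff]
    by_contra hne
    have htop := Sylow.normalizer_sup_eq_top T'
    rw [hT', ← hT] at htop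
    have hSN : (S' : Subgroup ↥L) ≤ normalizer (T : Set ↥L) := fun s hs =>
      CfsgLib.LocalEven.mem_normalizer_of_conj_le (by
        rintro _ ⟨x, hx, rfl⟩
        exact ⟨Subgroup.mul_mem _ (Subgroup.mul_mem _ hs hx.1) (Subgroup.inv_mem _ hs),
          (Subgroup.normalCore_normal M1).conj_mem x hx.2 s⟩)
    exact hM1top (top_le_iff.1 (htop.ge.trans (sup_le (hmax _ hSN hne) hK0M1)))
  have hTp : IsPGroup 2 T := S'.2.to_le hTS
  -- the Thompson subgroup is not in `T`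
  set J : Subgroup ↥L := (jTwo S).subgroupOf L with hJ
  have hJS : jTwo S ≤ S := jTwo_le S
  have hnJ : ¬ J ≤ T := by
    intro hle
    apply hLW
    intro x hx
    refine hNJ ⟨hx, ?_⟩
    set TG := T.map L.subtype with hTG
    have h1 : TG ≤ S := by rintro _ ⟨t, ht, rfl⟩; exact hTS ht
    have h2 : jTwo S ≤ TG := fun j hj => ⟨⟨j, hSL (hJS hj)⟩, hle hj, rfl⟩
    rw [← jTwo_eq_of_le h1 h2]
    refine normalizer_le_normalizer_jTwo TG (mem_normalizer_of_cj_le ?_)
    rintro _ ⟨_, ⟨t, ht, rfl⟩, rfl⟩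
    exact ⟨⟨x, hx⟩ * t * ⟨x, hx⟩⁻¹, hTn.conj_mem t ht _, rfl⟩
  -- the quotient by `T`
  set π := QuotientGroup.mk' T with hπ
  have hπs : Function.Surjective π := QuotientGroup.mk'_surjective T
  have hπk : ∀ x, π x = 1 ↔ x ∈ T := fun x => QuotientGroup.eq_one_iff x
  have hTle : ∀ O : Subgroup ↥L, O.Normal → IsPGroup 2 O → O ≤ T := fun O hOn hO => by
    have hOS : O ≤ (S' : Subgroup ↥L) := (CfsgLib.Cores.le_pCore hO).trans (CfsgLib.Cores.pCore_le_sylow S')
    exact le_inf hOS (Subgroup.normal_le_normalCore.2 (hOS.trans hSM1))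
  have hO2 : pCore 2 (↥L ⧸ T) = ⊥ := by
    have := CfsgLib.Cores.pCore_characteristic (G := ↥L ⧸ T) 2
    have hn' : (pCore 2 (↥L ⧸ T)).Normal := Subgroup.normal_of_characteristic _
    have hle := hTle ((pCore 2 (↥L ⧸ T)).comap π) inferInstance
      ((CfsgLib.Cores.isPGroup_pCore 2).comap_of_ker_isPGroup π (by rw [hπ, QuotientGroup.ker_mk']; exact hTp))
    rw [eq_bot_iff]
    intro q hq
    obtain ⟨x, rfl⟩ := hπs q
    exact Subgroup.mem_bot.2 ((hπk x).2 (hle hq))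
  set P := pPrimeCore 2 (↥L ⧸ T) with hP
  have hPn : P.Normal := by
    have := CfsgLib.Cores.pPrimeCore_characteristic (G := ↥L ⧸ T) 2
    exact Subgroup.normal_of_characteristic _
  have hPodd : Odd (Nat.card P) := Nat.coprime_two_right.1 (CfsgLib.Cores.coprime_card_pPrimeCore 2)
  have hPnorm : ∀ E : Subgroup (↥L ⧸ T), E ≤ normalizer (P : Set (↥L ⧸ T)) := fun E => by
    rw [Subgroup.normalizer_eq_top P]; exact le_top
  have hfaith : ∀ q : ↥L ⧸ T, q * q = 1 → (∀ p ∈ P, q * p = p * q) → q = 1 := by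
    intro q hq hc
    have h1 := CfsgLib.LocalEven.Offender.centralizer_pPrimeCore_le_of_pCore_eq_bot hO2
      (mem_centralizer_iff.2 fun p hp => (hc p hp).symm)
    rw [← orderOf_eq_one_iff]
    exact Nat.eq_one_of_dvd_coprimes (Nat.coprime_two_right.2 hPodd) (Subgroup.orderOf_dvd_natCard _ h1)
      (orderOf_dvd_of_pow_eq_one (by rw [pow_two]; exact hq))
  have hQcT : Qc.subgroupOf L ≤ T := by
    refine hTle _ ⟨fun x hx g => ?_⟩ ((hS.to_le hQcS).of_equiv
      (subgroupOfEquivOfLe (hQcS.trans hSL)).symm)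
    exact (show (g : G) * x * (g : G)⁻¹ ∈ Qc from CfsgLib.LocalEven.conj_mem_of_mem_normalizer (hLQc g.2) hx)
  have hCT : ∀ x : ↥L, (∀ t ∈ T, t * x = x * t) → x ∈ T := fun x hx => hQcT (hCQc ⟨x.2,
    mem_centralizer_iff.2 fun q hq =>
      congrArg Subtype.val (hx ⟨q, hSL (hQcS hq)⟩ (hQcT hq))⟩)
  -- lifting inverted elements
  have hlift : ∀ e : ↥L, e * e = 1 → e ∈ (S' : Subgroup ↥L) → ∀ z ∈ P, π e * z * (π e)⁻¹ = z⁻¹ →
      z ≠ 1 → ∃ y : ↥L, e * y * e⁻¹ = y⁻¹ ∧ Odd (orderOf y) ∧ ¬ 3 ∣ orderOf y ∧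
        π y ∈ zpowers z ∧ z ∈ zpowers (π y) := by
    intro e he _ z hz hzi hz1
    have hzodd : Odd (orderOf z) := hPodd.of_dvd_nat (Subgroup.orderOf_dvd_natCard _ hz)
    obtain ⟨y₀, rfl⟩ := hπs z
    have hei : e⁻¹ = e := inv_eq_of_mul_eq_one_right he
    set c := y₀⁻¹ * (e * y₀ * e⁻¹) with hc
    have hci : e * c * e⁻¹ = c⁻¹ := by
      simp only [hc, hei, mul_inv_rev, inv_inv]
      calc e * (y₀⁻¹ * (e * y₀ * e)) * e = e * y₀⁻¹ * e * y₀ * (e * e) := by group
        _ = _ := by rw [he, mul_one]; group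
    obtain ⟨k, m, hm, hk⟩ := Nat.exists_eq_two_pow_mul_odd (orderOf_pos c).ne'
    set y := c ^ 2 ^ k with hy
    have hyo : orderOf y = m := by
      rw [hy, orderOf_pow' _ (by positivity), hk, Nat.gcd_eq_right (dvd_mul_right _ _),
        Nat.mul_div_cancel_left _ (by positivity)]
    have hπy : π y = (π y₀)⁻¹ ^ (2 ^ (k + 1)) := by
      rw [hy, map_pow, hc, map_mul, map_inv, map_mul, map_mul, map_inv, hzi, ← pow_two, ← pow_mul,
        ← pow_succ']
    have hyi : e * y * e⁻¹ = y⁻¹ := by rw [hy, ← conj_pow, hci, inv_pow]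
    refine ⟨y, hyi, hyo ▸ hm, ?_, ?_, ?_⟩
    · rintro ⟨j, hj⟩
      have hj0 : j ≠ 0 := fun h => (orderOf_pos y).ne' (by rw [hj, h, mul_zero])
      set u := y ^ j with hu
      have hu3 : orderOf u = 3 := by
        rw [hu, orderOf_pow' _ hj0, hj, Nat.gcd_eq_right (dvd_mul_left _ _),
          Nat.mul_div_cancel _ (Nat.pos_of_ne_zero hj0)]
      have hTT : ∀ g : ↥L, g ∈ normalizer (T : Set ↥L) := fun g => by
        rw [Subgroup.normalizer_eq_top T]; exact mem_top g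
      apply hS4
      refine CfsgLib.LocalEven.S4Crit.involves_of_two_group hTp (x := e) (y := u) (hTT e) (hTT u)
        ?_ ⟨1, by rw [hu3, pow_one]⟩ (by rw [hu, ← conj_pow, hyi, inv_pow]) ?_
      · rcases (Nat.dvd_prime Nat.prime_two).1 (orderOf_dvd_of_pow_eq_one (x := e) (n := 2)
          (by rw [pow_two]; exact he)) with h | h
        · exact ⟨0, by rw [h]; rfl⟩
        · exact ⟨1, by rw [h]; rfl⟩
      · intro hcen
        have hmem := hCT u fun t ht => mem_centralizer_iff.1 hcen t ht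
        obtain ⟨i, hi⟩ := hTp ⟨u, hmem⟩
        have hd := orderOf_dvd_of_pow_eq_one (congrArg Subtype.val hi : u ^ 2 ^ i = 1)
        rw [hu3] at hd
        exact absurd (Nat.prime_three.dvd_of_dvd_pow hd) (by decide)
    · rw [hπy]; exact pow_mem (inv_mem (mem_zpowers _)) _
    · obtain ⟨i, hi⟩ := exists_pow_eq_self_of_coprime (x := (π y₀)⁻¹) (n := 2 ^ (k + 1))
        (by rw [orderOf_inv]; exact (Nat.coprime_two_left.2 hzodd).pow_left _)
      rw [← hπy] at hi
      have : (π y₀)⁻¹ ∈ zpowers (π y) := hi ▸ pow_mem (mem_zpowers _) i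
      simpa using inv_mem this
  -- the two-groups `T A₀`
  have hpair : ∀ X : Subgroup G, X ≤ S → (∀ v ∈ X, v * v = 1) →
      ∀ E₀ : Subgroup (↥L ⧸ T), E₀ ≤ (X.subgroupOf L).map π → ∀ q ∈ (X.subgroupOf L).map π,
      (X.subgroupOf L).map π ≤ E₀ ⊔ zpowers q → ∀ z ∈ P, q * z * q⁻¹ = z⁻¹ →
      (∀ f ∈ E₀, f * z = z * f) → z ≠ 1 →
      ∃ (Q : Subgroup G) (e y : ↥L), π e = q ∧ (e : G) ∈ X ∧ IsPGroup 2 Q ∧ T.map L.subtype ≤ Q ∧
        Q ≤ S ∧ (X ⊓ Q).relIndex X ≤ 2 ∧ X ≤ normalizer (Q : Set G) ∧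
        (y : G) ∈ normalizer (Q : Set G) ∧ (e : G) * y * (e : G)⁻¹ = (y : G)⁻¹ ∧
        Odd (orderOf (y : G)) ∧ ¬ 3 ∣ orderOf (y : G) ∧ z ∈ zpowers (π y) := by
    intro X hXS hX E₀ hE₀ q hq hcov z hz hzi hzc hz1
    obtain ⟨e, heX, rfl⟩ := hq
    have hXc := comm_of_mem_sq hX
    have he2 : e * e = 1 := Subtype.ext (hX _ heX)
    obtain ⟨y, hyi, hyo, hy3, hyz, hzy⟩ := hlift e he2 (hXS heX) z hz hzi hz1
    set X₀ : Subgroup G := ((X.subgroupOf L) ⊓ E₀.comap π).map L.subtype with hX₀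
    set Q := T.map L.subtype ⊔ X₀ with hQ
    have hTS' : T.map L.subtype ≤ S := by rintro _ ⟨t, ht, rfl⟩; exact hTS ht
    have hX₀X : X₀ ≤ X := by rintro _ ⟨x, hx, rfl⟩; exact hx.1
    have hQS : Q ≤ S := sup_le hTS' (hX₀X.trans hXS)
    have hXT : ∀ x ∈ X, x ∈ normalizer ((T.map L.subtype : Subgroup G) : Set G) := fun x hx =>
      mem_normalizer_of_cj_le (by
        rintro _ ⟨_, ⟨t, ht, rfl⟩, rfl⟩
        exact ⟨⟨x, hSL (hXS hx)⟩ * t * ⟨x, hSL (hXS hx)⟩⁻¹, hTn.conj_mem t ht _, rfl⟩)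
    refine ⟨Q, e, y, rfl, heX, hS.to_le hQS, le_sup_left, hQS, ?_, ?_, ?_, ?_, ?_, ?_, hzy⟩
    · refine relIndex_le_two_of_cover (a := (e : G)) heX fun x hx => ?_
      let D : Subgroup ↥L :=
        { carrier := {u | u ∈ X.subgroupOf L ∧ (π u ∈ E₀ ∨ π (e * u) ∈ E₀)}
          one_mem' := ⟨one_mem _, Or.inl (by rw [map_one]; exact one_mem _)⟩
          mul_mem' := by
            rintro a b ⟨ha, ha'⟩ ⟨hb, hb'⟩
            refine ⟨mul_mem ha hb, ?_⟩
            have hea : a * e = e * a := Subtype.ext (hXc _ ha _ heX)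
            rcases ha' with ha' | ha' <;> rcases hb' with hb' | hb'
            · exact Or.inl (by rw [map_mul]; exact mul_mem ha' hb')
            · exact Or.inr (by rw [← mul_assoc, ← hea, mul_assoc, map_mul]; exact mul_mem ha' hb')
            · exact Or.inr (by rw [← mul_assoc, map_mul]; exact mul_mem ha' hb')
            · refine Or.inl ?_
              have h := mul_mem ha' hb'
              rwa [← map_mul, show e * a * (e * b) = a * b by
                rw [← hea, mul_assoc, ← mul_assoc e e, he2, one_mul]] at h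
          inv_mem' := by
            rintro a ⟨ha, ha'⟩
            have : a⁻¹ = a := inv_eq_of_mul_eq_one_right (Subtype.ext (hX _ ha))
            rw [Set.mem_ofPred_eq, this]; exact ⟨ha, ha'⟩ }
      have hle : (X.subgroupOf L).map π ≤ (D.map π) := hcov.trans (sup_le (fun f hf => by
          obtain ⟨u, hu, rfl⟩ := hE₀ hf
          exact ⟨u, ⟨hu, Or.inl hf⟩, rfl⟩)
        (zpowers_le.2 ⟨e, ⟨heX, Or.inr (by rw [he2, map_one]; exact one_mem _)⟩, rfl⟩))
      obtain ⟨u, hu, hux⟩ := hle ⟨⟨x, hSL (hXS hx)⟩, hx, rfl⟩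
      set x' : ↥L := ⟨x, hSL (hXS hx)⟩
      have hmemQ : ∀ w : ↥L, (w : G) ∈ X → π w ∈ E₀ → (w : G) ∈ X ⊓ Q := fun w hw hwE =>
        ⟨hw, mem_sup_right ⟨w, ⟨hw, hwE⟩, rfl⟩⟩
      rcases hu.2 with h | h
      · exact Or.inl (hmemQ x' hx (by rw [← hux]; exact h))
      · refine Or.inr ?_
        have hei : (e : G)⁻¹ = e := inv_eq_of_mul_eq_one_right (hX _ heX)
        rw [hei]
        exact hmemQ (e * x') (mul_mem heX hx) (by rw [map_mul, ← hux, ← map_mul]; exact h)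
    · intro x hx
      refine mem_normalizer_of_cj_le ?_
      rw [hQ, cj, Subgroup.map_sup]
      refine sup_le_sup (cj_eq_self (hXT x hx)).le ?_
      rintro _ ⟨u, hu, rfl⟩
      show x * u * x⁻¹ ∈ X₀
      rw [hXc x hx u (hX₀X hu), mul_inv_cancel_right]; exact hu
    · refine mem_normalizer_of_cj_le ?_
      rw [hQ, cj, Subgroup.map_sup]
      refine sup_le ?_ ?_
      · rintro _ ⟨_, ⟨t, ht, rfl⟩, rfl⟩
        exact mem_sup_left ⟨y * t * y⁻¹, hTn.conj_mem t ht _, rfl⟩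
      · rintro _ ⟨_, ⟨w, hw, rfl⟩, rfl⟩
        have hcomm : Commute (π w) (π y) := by
          obtain ⟨i, hi⟩ := mem_zpowers_iff.1 hyz
          rw [← hi]
          exact (show Commute (π w) z from hzc _ hw.2).zpow_right i
        have hmem : w⁻¹ * (y * w * y⁻¹) ∈ T := (hπk _).1 (by
          simp only [map_mul, map_inv]
          rw [← hcomm.eq]; group)
        have h := mul_mem (mem_sup_right (S := T.map L.subtype) (show (w : G) ∈ X₀ from ⟨w, hw, rfl⟩))
          (mem_sup_left (T := X₀) ⟨_, hmem, rfl⟩)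
        show (y : G) * w * (y : G)⁻¹ ∈ Q
        simpa [mul_assoc] using h
    · exact congrArg Subtype.val hyi
    · rwa [Subgroup.orderOf_coe]
    · rwa [Subgroup.orderOf_coe]
  have hQc_T : Qc ≤ T.map L.subtype := fun q hq => ⟨⟨q, hSL (hQcS hq)⟩, hQcT hq, rfl⟩
  -- `W` lies in `T`
  have hWT : W ≤ T.map L.subtype := by
    set E := (W.subgroupOf L).map π with hE
    have hEsq : ∀ q ∈ E, q * q = 1 := by
      rintro _ ⟨w, hw, rfl⟩
      rw [← map_mul, show w * w = 1 from Subtype.ext (hW _ hw), map_one]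
    have hEc : ∀ q ∈ E, ∀ r ∈ E, q * r = r * q := comm_of_mem_sq hEsq
    have hle : P ≤ centralizer (E : Set (↥L ⧸ T)) := by
      refine le_of_inverted hEsq hEc (hPnorm E) hPodd (fun r _ h => mem_centralizer_iff.2 h) ?_
      intro E₀ hE₀ q hq hcov z hz hzi hzc
      by_contra hzH
      have hz1 : z ≠ 1 := fun h => hzH (h ▸ one_mem _)
      obtain ⟨Q, e, y, rfl, he, hQp, hTQ, hQS, hidx, hWQ, hyQ, hyi, hyo, hy3, hzy⟩ :=
        hpair W hWS hW E₀ hE₀ q hq hcov z hz hzi hzc hz1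
      have hyc := mem_centralizer_of_moved hQp hW (hQS.trans hSW) (hsp.mono hQS) he hidx
        (hWQ he) hyQ hyi hyo hy3
      have hyT : y ∈ T := hCT y fun t ht => Subtype.ext
        (mem_centralizer_iff.1 hyc t (hTQ ⟨t, ht, rfl⟩))
      rw [(hπk y).2 hyT, Subgroup.zpowers_one_eq_bot, Subgroup.mem_bot] at hzy
      exact hz1 hzy
    intro w hw
    refine ⟨⟨w, hSL (hWS hw)⟩, (hπk _).1 ?_, rfl⟩
    have hmem : π ⟨w, hSL (hWS hw)⟩ ∈ E := ⟨_, hw, rfl⟩
    exact hfaith _ (hEsq _ hmem) fun p hp => mem_centralizer_iff.1 (hle hp) _ hmem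
  -- every largest elementary abelian subgroup
  set M1q := M1.map π with hM1q
  have hTM1 : T ≤ M1 := inf_le_right.trans hK0M1
  have hπM1 : ∀ u : ↥L, π u ∈ M1q → u ∈ M1 := by
    rintro u ⟨v, hv, hvu⟩
    have := mul_mem hv (hTM1 (QuotientGroup.eq.1 hvu))
    rwa [mul_inv_cancel_left] at this
  let JS : Subgroup (↥L ⧸ T) :=
    { carrier := {j | j ∈ M1q ∧ ∀ r ∈ P, ⁅r, j⁆ ∈ M1q}
      one_mem' := ⟨one_mem _, fun r _ => by simp⟩
      mul_mem' := fun {a b} ha hb => ⟨mul_mem ha.1 hb.1, fun r hr => by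
        have h : ⁅r, a * b⁆ = ⁅r, a⁆ * (a * ⁅r, b⁆ * a⁻¹) := by
          simp [commutatorElement_def, mul_assoc]
        rw [h]
        exact mul_mem (ha.2 r hr) (mul_mem (mul_mem ha.1 (hb.2 r hr)) (inv_mem ha.1))⟩
      inv_mem' := fun {a} ha => ⟨inv_mem ha.1, fun r hr => by
        have h : ⁅r, a⁻¹⁆ = a⁻¹ * ⁅r, a⁆⁻¹ * a := by simp [commutatorElement_def, mul_assoc]
        rw [h]
        exact mul_mem (mul_mem (inv_mem ha.1) (inv_mem (ha.2 r hr))) ha.1⟩ }
  have hAJS : ∀ A : Subgroup G, IsMaxEl S A → (A.subgroupOf L).map π ≤ JS := by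
    intro A hA
    set E := (A.subgroupOf L).map π with hE
    have hEsq : ∀ q ∈ E, q * q = 1 := by
      rintro _ ⟨w, hw, rfl⟩
      rw [← map_mul, show w * w = 1 from Subtype.ext (hA.2.1 _ hw), map_one]
    have hEc : ∀ q ∈ E, ∀ r ∈ E, q * r = r * q := comm_of_mem_sq hEsq
    have hEM : E ≤ M1q := Subgroup.map_mono fun x hx => hSW (hA.1 hx)
    let Gs : Set (↥L ⧸ T) := {z | z ∈ P ∧ ∃ E₀ : Subgroup (↥L ⧸ T), E₀ ≤ E ∧ ∃ q ∈ E,
      E ≤ E₀ ⊔ zpowers q ∧ q * z * q⁻¹ = z⁻¹ ∧ ∀ f ∈ E₀, f * z = z * f}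
    set H0 := Subgroup.closure Gs with hH0
    have hH0M : H0 ≤ M1q := by
      rw [hH0, Subgroup.closure_le]
      rintro z ⟨hz, E₀, hE₀, q, hq, hcov, hzi, hzc⟩
      by_cases hz1 : z = 1
      · rw [hz1]; exact one_mem _
      obtain ⟨Q, e, y, rfl, he, hQp, hTQ, hQS, hidx, hAQ, hyQ, hyi, hyo, hy3, hzy⟩ :=
        hpair A hA.1 hA.2.1 E₀ hE₀ q hq hcov z hz hzi hzc hz1
      have hAW : A ≤ centralizer (W : Set G) :=
        (isMaxEl_le_jTwo hA).trans (le_centralizer_iff.1 hWJ)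
      have hyW := mem_normalizer_of_offender hQp (hWT.trans hTQ) hW (hQS.trans hSW) (hsp.mono hQS)
        hA.2.1 hAW hAQ he (by rw [← Subgroup.inf_relIndex_right, inf_comm]; exact hidx)
        (fun V hVQ hV _ => idx_le_of_isMaxEl hA (hVQ.trans hQS) hV) hyQ hyi hyo hy3
      exact zpowers_le.2 (show π y ∈ M1q from ⟨y, hyW, rfl⟩) hzy
    have hCH0 : ∀ c ∈ P, (∀ f ∈ E, f * c = c * f) → c ∈ normalizer (H0 : Set (↥L ⧸ T)) := by
      intro c hc hcc
      refine CfsgLib.LocalEven.mem_normalizer_of_conj_le ?_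
      rw [hH0, MonoidHom.map_closure, Subgroup.closure_le]
      rintro _ ⟨z, ⟨hz, E₀, hE₀, q, hq, hcov, hzi, hzc⟩, rfl⟩
      refine Subgroup.subset_closure ⟨hPn.conj_mem z hz c, E₀, hE₀, q, hq, hcov, ?_, ?_⟩
      · show q * (c * z * c⁻¹) * q⁻¹ = (c * z * c⁻¹)⁻¹
        have h1 : q * c * q⁻¹ = c := by rw [hcc q hq, mul_inv_cancel_right]
        calc q * (c * z * c⁻¹) * q⁻¹ = (q * c * q⁻¹) * (q * z * q⁻¹) * (q * c * q⁻¹)⁻¹ := by group
          _ = _ := by rw [h1, hzi]; group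
      · intro f hf
        have h1 : Commute f c := hcc f (hE₀ hf)
        exact ((h1.mul_right (hzc f hf)).mul_right h1.inv_right).eq
    let T2 : Subgroup (↥L ⧸ T) :=
      { carrier := {r | ∃ h ∈ H0, ∃ c ∈ P, (∀ f ∈ E, f * c = c * f) ∧ r = h * c}
        one_mem' := ⟨1, one_mem _, 1, one_mem _, fun f _ => by simp, (one_mul 1).symm⟩
        mul_mem' := by
          rintro a b ⟨h, hh, c, hc, hcc, rfl⟩ ⟨h', hh', c', hc', hcc', rfl⟩
          exact ⟨h * (c * h' * c⁻¹),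
            mul_mem hh (CfsgLib.LocalEven.conj_mem_of_mem_normalizer (hCH0 c hc hcc) hh'), c * c',
            mul_mem hc hc', fun f hf => ((show Commute f c from hcc f hf).mul_right (hcc' f hf)).eq,
            by group⟩
        inv_mem' := by
          rintro a ⟨h, hh, c, hc, hcc, rfl⟩
          refine ⟨c⁻¹ * h⁻¹ * c, ?_, c⁻¹, inv_mem hc,
            fun f hf => ((show Commute f c from hcc f hf).inv_right).eq, by group⟩
          simpa using CfsgLib.LocalEven.conj_mem_of_mem_normalizer (inv_mem (hCH0 c hc hcc)) (inv_mem hh) }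
    have hPT2 : P ≤ T2 := le_of_inverted hEsq hEc (hPnorm E) hPodd
      (fun r hr h => ⟨1, one_mem _, r, hr, h, (one_mul r).symm⟩)
      (fun E₀ hE₀ q hq hcov z hz hzi hzc => ⟨z, Subgroup.subset_closure
        ⟨hz, E₀, hE₀, q, hq, hcov, hzi, hzc⟩, 1, one_mem _, fun f _ => by simp, (mul_one z).symm⟩)
    intro j hj
    refine ⟨hEM hj, fun r hr => ?_⟩
    obtain ⟨h, hh, c, hc, hcc, rfl⟩ := hPT2 hr
    have h1 : ⁅h * c, j⁆ = ⁅h, j⁆ := by
      rw [commutatorElement_def, commutatorElement_def,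
        show h * c * j * (h * c)⁻¹ = h * (c * j * c⁻¹) * h⁻¹ by group, ← hcc j hj, mul_inv_cancel_right]
    rw [h1, commutatorElement_def]
    exact mul_mem (mul_mem (mul_mem (hH0M hh) (hEM hj)) (inv_mem (hH0M hh))) (inv_mem (hEM hj))
  set Jq := J.map π with hJq
  have hJle : Jq ≤ JS := by
    have h : jTwo S ≤ (JS.comap π).map L.subtype := jTwo_le_of_forall fun A hA a ha =>
      ⟨⟨a, hSL (hA.1 ha)⟩, hAJS A hA ⟨_, ha, rfl⟩, rfl⟩
    rw [hJq, Subgroup.map_le_iff_le_comap]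
    intro j hj
    obtain ⟨j', hj', he⟩ := h hj
    rwa [← Subtype.ext he]
  have hJp : IsPGroup 2 Jq :=
    ((hS.to_le hJS).of_equiv (subgroupOfEquivOfLe (hJS.trans hSL)).symm).map π
  have hcop : (Nat.card Jq).Coprime (Nat.card P) := by
    obtain ⟨k, hk⟩ := IsPGroup.iff_card.1 hJp
    rw [hk]
    exact (Nat.coprime_two_left.2 hPodd).pow_left k
  have hPM : P ≤ M1q := by
    intro r hr
    obtain ⟨x, hx, c, hc, rfl⟩ := CfsgLib.Solvable.exists_commutator_mul_centralizer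
      (hPnorm Jq) hcop (Or.inl (by have := hJp.isNilpotent; infer_instance)) hr
    refine mul_mem ?_ ?_
    · have hle : ⁅P, Jq⁆ ≤ M1q := Subgroup.commutator_le.2 fun p hp j hj => (hJle hj).2 p hp
      exact hle hx
    · obtain ⟨u, rfl⟩ := hπs c
      refine ⟨u, ?_, rfl⟩
      refine hNJ ⟨u.2, ?_⟩
      set TJ := T.map L.subtype ⊔ jTwo S with hTJ
      have hTJS : TJ ≤ S := sup_le (by rintro _ ⟨t, ht, rfl⟩; exact hTS ht) hJS
      rw [← jTwo_eq_of_le hTJS le_sup_right]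
      refine normalizer_le_normalizer_jTwo TJ (mem_normalizer_of_cj_le ?_)
      rw [hTJ, cj, Subgroup.map_sup]
      refine sup_le ?_ ?_
      · rintro _ ⟨_, ⟨t, ht, rfl⟩, rfl⟩
        exact mem_sup_left ⟨u * t * u⁻¹, hTn.conj_mem t ht _, rfl⟩
      · rintro _ ⟨j, hj, rfl⟩
        set j' : ↥L := ⟨j, hSL (hJS hj)⟩
        have hcj : π j' * π u = π u * π j' := mem_centralizer_iff.1 hc.2 _ ⟨j', hj, rfl⟩
        have hmem : j'⁻¹ * (u * j' * u⁻¹) ∈ T := (hπk _).1 (by
          simp only [map_mul, map_inv]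
          rw [← hcj]; group)
        have h := mul_mem (mem_sup_right (S := T.map L.subtype) (show (j' : G) ∈ jTwo S from hj))
          (mem_sup_left (T := jTwo S) ⟨_, hmem, rfl⟩)
        show (u : G) * j * (u : G)⁻¹ ∈ TJ
        simpa [j', mul_assoc] using h
  -- a contradiction with the core
  have hPK : P.comap π ≤ K0 :=
    Subgroup.normal_le_normalCore.2 fun u hu => hπM1 u (hPM hu)
  have hK0top : K0 ≠ ⊤ := fun h => hM1top (top_le_iff.1 (h.ge.trans hK0M1))
  set π₀ := QuotientGroup.mk' K0 with hπ₀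
  have hπ₀s : Function.Surjective π₀ := QuotientGroup.mk'_surjective K0
  have hsolL : Group.IsSolvable ↥L := hsol
  have hsolQ : Group.IsSolvable (↥L ⧸ K0) := Group.isSolvable_of_surjective (f := π₀) hπ₀s
  have hOK : pCore 2 (↥L ⧸ K0) = ⊥ := by
    have := CfsgLib.Cores.pCore_characteristic (G := ↥L ⧸ K0) 2
    have hn' : (pCore 2 (↥L ⧸ K0)).Normal := Subgroup.normal_of_characteristic _
    set O := (pCore 2 (↥L ⧸ K0)).comap π₀
    have hOM : O ≤ M1 := by
      intro o ho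
      have h1 : π₀ o ∈ ((S'.mapSurjective hπ₀s : Sylow 2 (↥L ⧸ K0)) : Subgroup (↥L ⧸ K0)) :=
        CfsgLib.Cores.pCore_le_sylow _ ho
      rw [Sylow.coe_mapSurjective] at h1
      obtain ⟨s, hs, hso⟩ := h1
      have := mul_mem (hSM1 hs) (hK0M1 (QuotientGroup.eq.1 hso))
      rwa [mul_inv_cancel_left] at this
    rw [eq_bot_iff]
    intro q hq
    obtain ⟨x, rfl⟩ := hπ₀s q
    exact Subgroup.mem_bot.2 ((QuotientGroup.eq_one_iff x).2 (Subgroup.normal_le_normalCore.2 hOM hq))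
  set P₀ := pPrimeCore 2 (↥L ⧸ K0) with hP₀
  have hP₀n : P₀.Normal := by
    have := CfsgLib.Cores.pPrimeCore_characteristic (G := ↥L ⧸ K0) 2
    exact Subgroup.normal_of_characteristic _
  set B := P₀.comap π₀ with hB
  have hBP : B.map π ≤ P := by
    have : (B.map π).Normal := Subgroup.Normal.map inferInstance π hπs
    refine CfsgLib.Cores.le_pPrimeCore ?_
    rw [← Subgroup.relIndex_ker, hπ, QuotientGroup.ker_mk']
    have hKB : K0 ≤ B := fun x hx => by
      show π₀ x ∈ P₀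
      rw [show π₀ x = 1 from (QuotientGroup.eq_one_iff x).2 hx]; exact one_mem _
    rw [← Subgroup.relIndex_mul_relIndex T K0 B inf_le_right hKB, Nat.coprime_mul_iff_left]
    refine ⟨?_, ?_⟩
    · rw [hT, Subgroup.inf_relIndex_right]
      refine (Nat.Prime.coprime_iff_not_dvd Nat.prime_two).2 ?_ |>.symm
      have h : (S' : Subgroup ↥L).relIndex K0 = (T' : Subgroup ↥K0).index := by
        rw [← Subgroup.inf_relIndex_right, ← hT', Subgroup.relIndex, Subgroup.subgroupOf,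
          Subgroup.comap_map_eq_self_of_injective K0.subtype_injective]
      rw [h]
      exact T'.not_dvd_index
    · have h : K0.relIndex B = Nat.card ↥(B.map π₀) := by
        rw [← Subgroup.relIndex_ker, hπ₀, QuotientGroup.ker_mk']
      rw [h, hB, Subgroup.map_comap_eq_self_of_surjective hπ₀s]
      exact CfsgLib.Cores.coprime_card_pPrimeCore 2
  have hBK : B ≤ K0 := fun x hx => hPK (hBP ⟨x, hx, rfl⟩)
  have hP₀1 : P₀ = ⊥ := by
    rw [eq_bot_iff]
    intro q hq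
    obtain ⟨x, rfl⟩ := hπ₀s q
    exact Subgroup.mem_bot.2 ((QuotientGroup.eq_one_iff x).2 (hBK hq))
  have hall : ∀ q : ↥L ⧸ K0, q = 1 := fun q => by
    have h := CfsgLib.LocalEven.Offender.centralizer_pPrimeCore_le_of_pCore_eq_bot hOK
      (mem_centralizer_iff.2 fun p hp => by
        rw [show p = 1 from Subgroup.mem_bot.1 (hP₀1.le hp)]; simp : q ∈ centralizer (P₀ : Set (↥L ⧸ K0)))
    exact Subgroup.mem_bot.1 (hP₀1.le h)
  exact hK0top (eq_top_iff.2 fun x _ => (QuotientGroup.eq_one_iff x).1 (hall _))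

end CfsgLib.SFreeLocals
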