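import Cfsg.Agent.Lib.SFreeLocals.Moved

/-!
An element inverted by a member of an abelian offender normalises a sparse subgroup centralised by it.
-/

set_option autoImplicit false

namespace CfsgLib.SFreeLocals

open Subgroup
open scoped commutatorElement

universe u

variable {G : Type u} [Group G] [Finite G]

theorem conj_eq_iff_comm {a u : G} : a * u * a⁻¹ = u ↔ a * u = u * a := mul_inv_eq_iff_eq_mul

theorem commutator_sq_mem {a u : G} (ha : a * a = 1) (hc : Commute u (a * u * a⁻¹)) :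
    a * (a * u * a⁻¹ * u) * a⁻¹ = a * u * a⁻¹ * u := by
  have hai : a⁻¹ = a := inv_eq_of_mul_eq_one_right ha
  rw [← hc.eq, hai]
  calc a * (u * (a * u * a)) * a = a * u * a * u * (a * a) := by group
    _ = u * (a * u * a) := by
      rw [ha, mul_one]
      have := hc.eq
      rw [hai] at this
      exact this.symm

/-- `y` centralises a section of order at most eight. -/
theorem fixed_of_small {V : Subgroup G} (hV : ∀ v ∈ V, v * v = 1) {a y : G}
    (haV : a ∈ normalizer (V : Set G)) (hyV : y ∈ normalizer (V : Set G)) (ha : a * a = 1)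
    (hinv : a * y * a⁻¹ = y⁻¹) (hy : Odd (orderOf y)) (h3 : ¬ 3 ∣ orderOf y) (U R : Subgroup G)
    (hUV : U ≤ V) (hRU : R ≤ U) (hRy : ∀ r ∈ R, y * r * y⁻¹ = r)
    (hRa : ∀ r ∈ R, a * r * a⁻¹ ∈ R) (haU : ∀ u ∈ U, a * u * a⁻¹ ∈ U)
    (hyU : ∀ u ∈ U, y * u * y⁻¹ ∈ U) (h8 : R.relIndex U ≤ 8) : ∀ u ∈ U, y * u * y⁻¹ = u := by
  have hVc : ∀ x ∈ V, ∀ z ∈ V, x * z = z * x := fun x hx z hz =>
    congrArg Subtype.val (comm_of_sq (V := ↥V) (fun v => Subtype.ext (hV v v.2)) ⟨x, hx⟩ ⟨z, hz⟩)
  let δ : ↥U →* G :=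
    { toFun := fun u => a * u * a⁻¹ * u
      map_one' := by simp
      map_mul' := fun u v => by
        have h := hVc _ (CfsgLib.LocalEven.conj_mem_of_mem_normalizer haV (hUV v.2)) u (hUV u.2)
        show a * ((u : G) * v) * a⁻¹ * ((u : G) * v) = a * u * a⁻¹ * u * (a * v * a⁻¹ * v)
        calc a * ((u : G) * v) * a⁻¹ * ((u : G) * v)
            = a * u * a⁻¹ * ((a * v * a⁻¹) * u) * v := by group
          _ = _ := by rw [h]; group }
  set D := (R.comap δ).map U.subtype with hDdef
  have hD : ∀ u, u ∈ D ↔ u ∈ U ∧ a * u * a⁻¹ * u ∈ R := by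
    intro u
    constructor
    · rintro ⟨v, hv, rfl⟩
      exact ⟨v.2, hv⟩
    · rintro ⟨hu, hv⟩
      exact ⟨⟨u, hu⟩, hv, rfl⟩
  have hDU : D ≤ U := fun u hu => ((hD u).1 hu).1
  have hRD : R ≤ D := fun r hr => (hD r).2 ⟨hRU hr, mul_mem (hRa r hr) hr⟩
  have hrange : δ.range ≤ D := by
    rintro _ ⟨u, rfl⟩
    refine (hD _).2 ⟨U.mul_mem (haU u u.2) u.2, ?_⟩
    have hm : a * (u : G) * a⁻¹ ∈ V := hUV (haU u u.2)
    show a * (a * (u : G) * a⁻¹ * u) * a⁻¹ * (a * u * a⁻¹ * u) ∈ R
    rw [commutator_sq_mem ha (hVc _ (hUV u.2) _ hm), hV _ (mul_mem hm (hUV u.2))]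
    exact one_mem _
  have hidx : D.relIndex U ≤ R.relIndex D := by
    have h1 : D.relIndex U = (R.comap δ).relIndex ⊤ := by
      rw [Subgroup.relIndex_top_right, hDdef, Subgroup.relIndex, Subgroup.subgroupOf,
        Subgroup.comap_map_eq_self_of_injective U.subtype_injective]
    rw [h1, Subgroup.relIndex_comap, ← MonoidHom.range_eq_map]
    exact Subgroup.relIndex_le_of_le_right hrange (relIndex_ne _ _)
  have hmul := Subgroup.relIndex_mul_relIndex R D U hRD hDU
  have h2 : D.relIndex U ≤ 2 := by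
    by_contra h
    have := Nat.mul_le_mul (show 3 ≤ R.relIndex D by omega) (show 3 ≤ D.relIndex U by omega)
    omega
  exact fixed_of_hyperplane hV haV hyV (by rw [ha]; exact one_mem _) hinv hy h3 U R D hUV
    (hRU.trans hUV) hRy hRa haU hyU hD h2

/-- Joins of the first conjugates of `W` under `y`. -/
def orbitJoin (y : G) (W : Subgroup G) : ℕ → Subgroup G
  | 0 => W
  | k + 1 => orbitJoin y W k ⊔ cj (y ^ (k + 1)) W

theorem le_orbitJoin (y : G) (W : Subgroup G) :
    ∀ {i k : ℕ}, i ≤ k → cj (y ^ i) W ≤ orbitJoin y W k := by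
  intro i k
  induction k with
  | zero => intro h; rw [Nat.le_zero.1 h, pow_zero, cj_one]; exact le_rfl
  | succ k ih =>
    intro h
    rcases Nat.lt_or_ge i (k + 1) with h' | h'
    · exact (ih (Nat.lt_succ_iff.1 h')).trans le_sup_left
    · rw [le_antisymm h h']; exact le_sup_right

theorem orbitJoin_le {y : G} {W X : Subgroup G} (h : ∀ i, cj (y ^ i) W ≤ X) :
    ∀ k, orbitJoin y W k ≤ X
  | 0 => by have := h 0; rwa [pow_zero, cj_one] at this
  | k + 1 => sup_le (orbitJoin_le h k) (h _)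

/-- `y` inverted by the member `a` of an offender centralising `W` normalises `W`. -/
theorem mem_normalizer_of_offender {Q W A : Subgroup G} {a y : G} (hQ : IsPGroup 2 Q) (hWQ : W ≤ Q)
    (hW : ∀ v ∈ W, v * v = 1) (hQW : Q ≤ normalizer (W : Set G)) (hsp : Sparse W Q)
    (hA : ∀ x ∈ A, x * x = 1) (hAW : A ≤ centralizer (W : Set G))
    (hAQ : A ≤ normalizer (Q : Set G)) (ha : a ∈ A) (hidx : Q.relIndex A ≤ 2)
    (hoff : ∀ V : Subgroup G, V ≤ Q → (∀ v ∈ V, v * v = 1) → A ≤ normalizer (V : Set G) →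
      idx A V ≤ idx V A)
    (hyQ : y ∈ normalizer (Q : Set G)) (hinv : a * y * a⁻¹ = y⁻¹) (hy : Odd (orderOf y))
    (h3 : ¬ 3 ∣ orderOf y) : y ∈ normalizer (W : Set G) := by
  classical
  by_cases haQ : a ∈ Q
  · have h1 : a * (y * a⁻¹ * y⁻¹) ∈ Q :=
      mul_mem haQ (CfsgLib.LocalEven.conj_mem_of_mem_normalizer hyQ (inv_mem haQ))
    rw [show a * (y * a⁻¹ * y⁻¹) = a * y * a⁻¹ * y⁻¹ by group, hinv, ← mul_inv_rev, inv_mem_iff] at h1
    exact hQW (mem_of_sq_mem hy h1)
  have hAc : ∀ x ∈ A, ∀ z ∈ A, x * z = z * x := fun x hx z hz =>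
    congrArg Subtype.val (comm_of_sq (V := ↥A) (fun v => Subtype.ext (hA v v.2)) ⟨x, hx⟩ ⟨z, hz⟩)
  have hainv : a⁻¹ = a := inv_eq_of_mul_eq_one_right (hA a ha)
  have haWn : cj a W = W := cj_eq_self (mem_normalizer_of_cj_le (by
    rintro _ ⟨v, hv, rfl⟩
    show a * v * a⁻¹ ∈ W
    rw [← mem_centralizer_iff.1 (hAW ha) v hv, mul_inv_cancel_right]; exact hv))
  have hapow : ∀ k : ℕ, a * y ^ k = (y ^ k)⁻¹ * a := fun k => by
    have h := congrArg (· * a) (show a * y ^ k * a⁻¹ = (y ^ k)⁻¹ by rw [← conj_pow, hinv, inv_pow])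
    simpa [mul_assoc] using h
  set n := orderOf y with hn
  have hmod : ∀ i : ℕ, cj (y ^ i) W ≤ orbitJoin y W n := fun i => by
    rw [← pow_mod_orderOf]
    exact le_orbitJoin y W (Nat.mod_lt _ (orderOf_pos y)).le
  have hpn : ∀ i : ℕ, y ^ i ∈ normalizer (Q : Set G) := fun i => pow_mem hyQ i
  have hiQ : ∀ i : ℕ, cj (y ^ i) W ≤ Q := fun i => (cj_mono _ hWQ).trans (cj_eq_self (hpn i)).le
  have hQi : ∀ i : ℕ, Q ≤ normalizer ((cj (y ^ i) W : Subgroup G) : Set G) := fun i q hq =>
    mem_normalizer_of_cj_le (by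
      rw [cj_cj, show q * y ^ i = y ^ i * ((y ^ i)⁻¹ * q * y ^ i) by group, ← cj_cj,
        cj_eq_self (hQW _)]
      simpa using CfsgLib.LocalEven.conj_mem_of_mem_normalizer (inv_mem (hpn i)) hq)
  have hia : ∀ i : ℕ, cj a (cj (y ^ i) W) = cj (y ^ (i * (n - 1))) W := fun i => by
    rw [cj_cj, hapow, ← cj_cj, haWn]
    congr 1
    rw [inv_eq_iff_mul_eq_one, ← pow_add]
    refine orderOf_dvd_iff_pow_eq_one.1 ⟨i, ?_⟩
    have hpos := orderOf_pos y
    rw [← hn] at hpos
    calc i + i * (n - 1) = i * (1 + (n - 1)) := by ring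
      _ = orderOf y * i := by rw [show 1 + (n - 1) = n by omega, hn, mul_comm]
  -- the conjugates commute
  have hcomm : ∀ i : ℕ, W ≤ centralizer ((cj (y ^ i) W : Subgroup G) : Set G) := by
    intro i
    set x := y ^ i
    set m := idx (cj x W) W with hm
    have h1 := hsp (cj x W) (hiQ i) ((hiQ i).trans hQW) (by
      rintro _ ⟨v, hv, rfl⟩
      rw [← map_mul, hW v hv, map_one]; exact one_mem _)
    have h2 : idx W (cj x W) = m := by
      calc idx W (cj x W) = idx (cj x⁻¹ W) (cj x⁻¹ (cj x W)) := (idx_cj _ _ _).symm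
        _ = idx (cj x⁻¹ W) W := by rw [cj_cj x⁻¹ x, inv_mul_cancel, cj_one]
        _ = idx (cj a (cj x⁻¹ W)) (cj a W) := (idx_cj _ _ _).symm
        _ = m := by
          rw [haWn, cj_cj, show a * x⁻¹ = x * a by
            have := hapow i
            calc a * x⁻¹ = x * (x⁻¹ * a) * x⁻¹ := by group
              _ = x * (a * x) * x⁻¹ := by rw [this]
              _ = x * a := by group, ← cj_cj, haWn]
    rw [h2] at h1
    have := idx_pos (cj x W) W
    exact idx_eq_one_iff.1 (by nlinarith)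
  set V := orbitJoin y W n with hVdef
  have hVQ : V ≤ Q := orbitJoin_le hiQ n
  have hWV : W ≤ V := by have := hmod 0; rwa [pow_zero, cj_one] at this
  have hyV : y ∈ normalizer (V : Set G) := mem_normalizer_of_cj_le (by
    refine Subgroup.map_le_iff_le_comap.2 (orbitJoin_le (fun i => ?_) n)
    refine Subgroup.map_le_iff_le_comap.1 ?_
    show cj y (cj (y ^ i) W) ≤ V
    rw [cj_cj, ← pow_succ']
    exact hmod _)
  have haVn : a ∈ normalizer (V : Set G) := mem_normalizer_of_cj_le (by
    refine Subgroup.map_le_iff_le_comap.2 (orbitJoin_le (fun i => ?_) n)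
    refine Subgroup.map_le_iff_le_comap.1 ?_
    show cj a (cj (y ^ i) W) ≤ V
    rw [hia]
    exact hmod _)
  have hQV : Q ≤ normalizer (V : Set G) := fun q hq => mem_normalizer_of_cj_le (by
    refine Subgroup.map_le_iff_le_comap.2 (orbitJoin_le (fun i => ?_) n)
    refine Subgroup.map_le_iff_le_comap.1 ?_
    show cj q (cj (y ^ i) W) ≤ V
    rw [cj_eq_self (hQi i hq)]
    exact hmod _)
  have hsplit : ∀ x ∈ A, x ∈ Q ∨ a⁻¹ * x ∈ Q := by
    obtain ⟨r₀, hr₀, h⟩ := two_cosets hidx
    intro x hx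
    rcases h x hx with h1 | h1
    · exact Or.inl h1
    · rcases h a ha with h2 | h2
      · exact absurd h2 haQ
      · right
        have := mul_mem (inv_mem h2) h1
        simpa [mul_assoc] using this
  have hAV : A ≤ normalizer (V : Set G) := fun x hx => by
    rcases hsplit x hx with h | h
    · exact hQV h
    · simpa using mul_mem haVn (hQV h)
  -- `V` is elementary
  have hgenc : ∀ i j : ℕ, cj (y ^ i) W ≤ centralizer ((cj (y ^ j) W : Subgroup G) : Set G) := by
    intro i j
    rcases Nat.le_total i j with h | h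
    · obtain ⟨k, rfl⟩ := Nat.exists_eq_add_of_le h
      rw [pow_add, ← cj_cj, cj_centralizer]
      exact cj_mono _ (hcomm k)
    · obtain ⟨k, rfl⟩ := Nat.exists_eq_add_of_le h
      refine le_centralizer_iff.1 ?_
      rw [pow_add, ← cj_cj, cj_centralizer]
      exact cj_mono _ (hcomm k)
  have hVc : V ≤ centralizer (V : Set G) := orbitJoin_le (fun i => le_centralizer_iff.1
    (orbitJoin_le (fun j => hgenc j i) n)) n
  have hV : ∀ v ∈ V, v * v = 1 := by
    let S : Subgroup G :=
      { carrier := {v | v ∈ V ∧ v * v = 1}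
        one_mem' := ⟨one_mem _, one_mul 1⟩
        mul_mem' := fun {u v} hu hv => ⟨mul_mem hu.1 hv.1, by
          rw [mul_assoc, ← mul_assoc v, ← mem_centralizer_iff.1 (hVc hv.1) u hu.1, mul_assoc u v v,
            hv.2, mul_one, hu.2]⟩
        inv_mem' := fun {u} hu => ⟨inv_mem hu.1, by rw [← mul_inv_rev, hu.2, inv_one]⟩ }
    have hS : V ≤ S := orbitJoin_le (fun i => by
      rintro _ ⟨v, hv, rfl⟩
      exact ⟨hmod i ⟨v, hv, rfl⟩, by rw [← map_mul, hW v hv, map_one]⟩) n
    exact fun v hv => (hS hv).2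
  have hspV : Sparse V Q := by
    have : ∀ k, Sparse (orbitJoin y W k) Q ∧ Q ≤ normalizer (orbitJoin y W k : Set G) := by
      intro k
      induction k with
      | zero => exact ⟨hsp, hQW⟩
      | succ k ih =>
        refine ⟨Sparse.sup ih.1 (Sparse.cj hsp (hpn (k + 1))) ih.2 (hQi (k + 1)), fun q hq => ?_⟩
        refine mem_normalizer_of_cj_le ?_
        show cj q (orbitJoin y W k ⊔ cj (y ^ (k + 1)) W) ≤ _
        rw [cj, Subgroup.map_sup]
        exact sup_le_sup (cj_eq_self (ih.2 hq)).le (cj_eq_self (hQi (k + 1) hq)).le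
    exact (this n).1
  have hWfix : (∀ v ∈ V, y * v * y⁻¹ = v) → y ∈ normalizer (W : Set G) := fun h =>
    mem_normalizer_of_cj_le (by
      rintro _ ⟨v, hv, rfl⟩
      show y * v * y⁻¹ ∈ W
      rw [h v (hWV hv)]; exact hv)
  set A0 := A ⊓ Q with hA0
  set e := idx V A0 with he
  have hlow : e * e ≤ idx A0 V := hspV A0 inf_le_right (inf_le_right.trans hQV)
    fun x hx => by rw [hA x hx.1]; exact one_mem _
  have hA0A : idx A0 V ≤ idx A V :=
    Subgroup.relIndex_le_of_le_left (centralizer_le (SetLike.coe_subset_coe.2 inf_le_left)) (relIndex_ne _ _)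
  have hup : idx A V ≤ e * 2 := by
    refine (hoff V hVQ hV hAV).trans ((relIndex_le_mul _ A0 A inf_le_left).trans ?_)
    refine Nat.mul_le_mul le_rfl ?_
    rw [hA0, inf_comm, Subgroup.inf_relIndex_right]
    exact hidx
  have he0 : 0 < e := idx_pos _ _
  rcases Nat.lt_or_ge e 2 with he1 | he2
  · refine hWfix (fixed_of_hyperplane hV haVn hyV (by rw [hA a ha]; exact one_mem _) hinv hy h3
      V ⊥ (V ⊓ centralizer ({a} : Set G)) le_rfl bot_le
      (fun r hr => by rw [Subgroup.mem_bot.1 hr]; simp)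
      (fun r hr => by rw [Subgroup.mem_bot.1 hr]; simp)
      (fun u hu => CfsgLib.LocalEven.conj_mem_of_mem_normalizer haVn hu)
      (fun u hu => CfsgLib.LocalEven.conj_mem_of_mem_normalizer hyV hu) (fun u => ?_) ?_)
    · rw [Subgroup.mem_bot, mem_inf]
      refine and_congr_right fun hu => ?_
      rw [mem_centralizer_singleton_iff, mul_eq_one_iff_eq_inv, inv_eq_of_mul_eq_one_right (hV u hu),
        conj_eq_iff_comm]
      exact eq_comm
    · rw [inf_comm, Subgroup.inf_relIndex_right]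
      refine le_trans ?_ (hup.trans (by omega))
      exact Subgroup.relIndex_le_of_le_left
        (centralizer_le (Set.singleton_subset_iff.2 ha)) (relIndex_ne _ _)
  have he2' : e = 2 := by nlinarith
  have hA0V : idx A0 V = 4 := by nlinarith
  have hAV4 : idx A V = 4 := by omega
  set C := V ⊓ centralizer (A : Set G) with hC
  have hCA0 : V ⊓ centralizer (A0 : Set G) ≤ centralizer (A : Set G) := by
    have hle : centralizer (A : Set G) ≤ centralizer (A0 : Set G) :=
      centralizer_le (SetLike.coe_subset_coe.2 inf_le_left)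
    have h := Subgroup.relIndex_mul_relIndex (centralizer (A : Set G) ⊓ V)
      (centralizer (A0 : Set G) ⊓ V) V (inf_le_inf_right _ hle) inf_le_right
    rw [Subgroup.inf_relIndex_right, Subgroup.inf_relIndex_right] at h
    rw [show (centralizer (A : Set G)).relIndex V = 4 from hAV4,
      show (centralizer (A0 : Set G)).relIndex V = 4 from hA0V] at h
    have h' : (centralizer (A : Set G) ⊓ V).relIndex (centralizer (A0 : Set G) ⊓ V) = 1 := by omega
    intro v hv
    exact (Subgroup.relIndex_eq_one.1 h' ⟨hv.2, hv.1⟩).1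
  have hC4 : C.relIndex V = 4 := by rw [hC, inf_comm, Subgroup.inf_relIndex_right]; exact hAV4
  obtain ⟨m, hm⟩ := hy
  set g := (y ^ (m + 1))⁻¹ with hg
  have hgconj : g * a * g⁻¹ = a * y := by
    calc g * a * g⁻¹ = (y ^ (m + 1))⁻¹ * (a * y ^ (m + 1)) := by rw [hg, inv_inv]; group
      _ = (y ^ (m + 1) * y ^ (m + 1))⁻¹ * a := by rw [hapow]; group
      _ = a * y := by
        rw [← pow_add, show m + 1 + (m + 1) = orderOf y + 1 by omega, pow_succ, pow_orderOf_eq_one,
          one_mul]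
        simpa using (hapow 1).symm
  have hgz : g ∈ zpowers y := inv_mem (pow_mem (mem_zpowers y) _)
  have hgV : g ∈ normalizer (V : Set G) := zpowers_le.2 hyV hgz
  have hgodd : Odd (orderOf g) := by
    rw [hg, orderOf_inv]; exact Odd.of_dvd_nat (⟨m, hm⟩ : Odd (orderOf y)) (orderOf_pow_dvd _)
  have hg3 : ¬ 3 ∣ orderOf g := by
    rw [hg, orderOf_inv]; exact fun h => h3 (h.trans (orderOf_pow_dvd _))
  set C' := cj g C with hC'
  have hC'4 : C'.relIndex V = 4 := by
    have hcv : cj g V = V := cj_eq_self hgV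
    calc C'.relIndex V = C'.relIndex (cj g V) := by rw [hcv]
      _ = C.relIndex V := Subgroup.relIndex_map_map_of_injective _ _ (MulAut.conj g).injective
      _ = 4 := hC4
  set R := C ⊓ C' with hR
  have hRV : R ≤ V := inf_le_left.trans inf_le_left
  have hR16 : R.relIndex V ≤ 16 := Subgroup.relIndex_inf_le.trans (by rw [hC4, hC'4])
  have hRy : ∀ r ∈ R, y * r * y⁻¹ = r := by
    intro r hr
    have h1 : a ∈ centralizer ({r} : Set G) :=
      mem_centralizer_singleton_iff.2 (mem_centralizer_iff.1 hr.1.2 a ha)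
    have h2 : g * a * g⁻¹ ∈ centralizer ({r} : Set G) := by
      have h4 := mem_cj.1 hr.2
      have h5 := mem_centralizer_iff.1 h4.2 a ha
      refine mem_centralizer_singleton_iff.2 ?_
      calc g * a * g⁻¹ * r = g * (a * (g⁻¹ * r * g)) * g⁻¹ := by group
        _ = g * (g⁻¹ * r * g * a) * g⁻¹ := by rw [h5]
        _ = r * (g * a * g⁻¹) := by group
    have h6 := mul_mem (inv_mem h1) h2
    rw [hgconj, inv_mul_cancel_left] at h6
    exact conj_eq_iff_comm.2 (mem_centralizer_singleton_iff.1 h6)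
  have hRpow : ∀ i : ℕ, ∀ r ∈ R, y ^ i * r * (y ^ i)⁻¹ = r := fun i r hr =>
    conj_eq_iff_comm.2 ((show Commute y r from conj_eq_iff_comm.1 (hRy r hr)).pow_left i).eq
  set E := ⨆ i : ℕ, cj (y ^ i) A0 with hE
  have hEQ : E ≤ Q := iSup_le fun i => (cj_mono _ inf_le_right).trans (cj_eq_self (hpn i)).le
  have hEV : E ≤ normalizer (V : Set G) := hEQ.trans hQV
  have hER : R ≤ centralizer (E : Set G) := fun r hr => by
    refine mem_centralizer_iff.2 fun x hx => ?_
    have hle : E ≤ centralizer ({r} : Set G) := iSup_le fun i => by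
      rintro _ ⟨u, hu, rfl⟩
      refine mem_centralizer_singleton_iff.2 ?_
      show y ^ i * u * (y ^ i)⁻¹ * r = r * (y ^ i * u * (y ^ i)⁻¹)
      have hur : u * r = r * u := mem_centralizer_iff.1 hr.1.2 u hu.1
      have hir := hRpow i r hr
      calc y ^ i * u * (y ^ i)⁻¹ * r = y ^ i * u * (y ^ i)⁻¹ * (y ^ i * r * (y ^ i)⁻¹) := by rw [hir]
        _ = y ^ i * (u * r) * (y ^ i)⁻¹ := by group
        _ = (y ^ i * r * (y ^ i)⁻¹) * (y ^ i * u * (y ^ i)⁻¹) := by rw [hur]; group
        _ = _ := by rw [hir]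
    exact mem_centralizer_singleton_iff.1 (hle hx)
  have hEy : y ∈ normalizer (E : Set G) := mem_normalizer_of_cj_le (by
    rw [hE, cj, Subgroup.map_iSup]
    refine iSup_le fun i => ?_
    show cj y (cj (y ^ i) A0) ≤ _
    rw [cj_cj, ← pow_succ']
    exact le_iSup (fun i : ℕ => cj (y ^ i) A0) (i + 1))
  have haA0 : cj a A0 = A0 := cj_eq_self (mem_normalizer_of_cj_le (by
    rintro _ ⟨u, hu, rfl⟩
    show a * u * a⁻¹ ∈ A0
    rw [hAc a ha u hu.1, mul_inv_cancel_right]; exact hu))
  have hEa : a ∈ normalizer (E : Set G) := mem_normalizer_of_cj_le (by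
    rw [hE, cj, Subgroup.map_iSup]
    refine iSup_le fun i => ?_
    show cj a (cj (y ^ i) A0) ≤ _
    rw [cj_cj, hapow, ← cj_cj, haA0]
    obtain ⟨k, hk⟩ : ∃ k : ℕ, y ^ k = (y ^ i)⁻¹ :=
      mem_powers_iff_mem_zpowers.2 (inv_mem (pow_mem (mem_zpowers y) i))
    rw [← hk]
    exact le_iSup (fun i : ℕ => cj (y ^ i) A0) k)
  set X := ⁅V, E⁆ with hX
  set Vf := X ⊔ R with hVf
  have hXV : X ≤ V := CfsgLib.Solvable.commutator_le_of_le_normalizer hEV
  have hVfV : Vf ≤ V := sup_le hXV hRV
  have hVfconj : ∀ h : G, h ∈ normalizer (V : Set G) → h ∈ normalizer (E : Set G) →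
      (∀ r ∈ R, h * r * h⁻¹ = r) → ∀ u ∈ Vf, h * u * h⁻¹ ∈ Vf := by
    intro h hhV hhE hhR u hu
    have hle : cj h Vf ≤ Vf := by
      rw [hVf, hX, cj, Subgroup.map_sup, Subgroup.map_commutator]
      refine sup_le_sup ?_ ?_
      · exact Subgroup.commutator_mono (cj_eq_self hhV).le (cj_eq_self hhE).le
      · rintro _ ⟨r, hr, rfl⟩
        show h * r * h⁻¹ ∈ R
        rw [hhR r hr]; exact hr
    exact hle (conj_mem_cj hu)
  have hRa : ∀ r ∈ R, a * r * a⁻¹ = r := fun r hr =>
    conj_eq_iff_comm.2 (mem_centralizer_iff.1 hr.1.2 a ha)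
  by_cases hgoal : Vf ≤ R
  swap
  · by_cases htop : V ≤ Vf
    · -- nilpotency
      exfalso
      apply hgoal
      refine sup_le ?_ le_rfl
      have hXX : X ≤ ⁅X, E⁆ := by
        rw [hX, Subgroup.commutator_le]
        intro v hv x hx
        let T : Subgroup G :=
          { carrier := {v | v ∈ V ∧ ∀ x ∈ E, ⁅v, x⁆ ∈ ⁅⁅V, E⁆, E⁆}
            one_mem' := ⟨one_mem _, fun x _ => by simp⟩
            mul_mem' := fun {u v} hu hv => ⟨mul_mem hu.1 hv.1, fun x hx => by
              have hc : ⁅v, x⁆ ∈ V := hXV (Subgroup.commutator_mem_commutator hv.1 hx)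
              have he : ⁅u * v, x⁆ = ⁅v, x⁆ * ⁅u, x⁆ := by
                have h1 := mem_centralizer_iff.1 (hVc hu.1) _ hc
                calc ⁅u * v, x⁆ = u * ⁅v, x⁆ * u⁻¹ * ⁅u, x⁆ := by
                      simp [commutatorElement_def, mul_assoc]
                  _ = _ := by rw [← h1]; group
              rw [he]; exact mul_mem (hv.2 x hx) (hu.2 x hx)⟩
            inv_mem' := fun {u} hu => by
              have : u⁻¹ = u := inv_eq_of_mul_eq_one_right (hV u hu.1)
              rw [Set.mem_ofPred_eq, this]; exact hu }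
        have hT : Vf ≤ T := sup_le
          (fun c hc => ⟨hXV hc, fun x hx => Subgroup.commutator_mem_commutator hc hx⟩)
          (fun r hr => ⟨hRV hr, fun x hx => by
            rw [show ⁅r, x⁆ = 1 from commutatorElement_eq_one_iff_mul_comm.2
              (mem_centralizer_iff.1 (hER hr) x hx).symm]
            exact one_mem _⟩)
        exact (hT (htop hv)).2 x hx
      have hXbot : X = ⊥ := by
        haveI := hQ.isNilpotent
        obtain ⟨k, hk⟩ := (Subgroup.isNilpotent_iff_lowerCentralSeries Q).1 inferInstance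
        have hall : ∀ j, X ≤ Q.lowerCentralSeries j := by
          intro j
          induction j with
          | zero => exact hXV.trans hVQ
          | succ j ih => exact hXX.trans (Subgroup.commutator_mono ih hEQ)
        exact le_bot_iff.1 (hk ▸ hall k)
      rw [hXbot]; exact bot_le
    · have h1 : 2 ≤ R.relIndex Vf := by
        have := relIndex_ne R Vf
        have : R.relIndex Vf ≠ 1 := fun h => hgoal (Subgroup.relIndex_eq_one.1 h)
        omega
      have h2 : 2 ≤ Vf.relIndex V := by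
        have := relIndex_ne Vf V
        have : Vf.relIndex V ≠ 1 := fun h => htop (Subgroup.relIndex_eq_one.1 h)
        omega
      have hmul := Subgroup.relIndex_mul_relIndex R Vf V le_sup_right hVfV
      have h3' : R.relIndex Vf ≤ 8 := by nlinarith
      have h4' : Vf.relIndex V ≤ 8 := by nlinarith
      have hVfa := hVfconj a haVn hEa hRa
      have hVfy : ∀ u ∈ Vf, y * u * y⁻¹ = u :=
        fixed_of_small hV haVn hyV (hA a ha) hinv ⟨m, hm⟩ h3 Vf R hVfV le_sup_right hRy
          (fun r hr => by rw [hRa r hr]; exact hr) hVfa (hVfconj y hyV hEy hRy) h3'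
      exact hWfix (fixed_of_small hV haVn hyV (hA a ha) hinv ⟨m, hm⟩ h3 V Vf le_rfl hVfV hVfy hVfa
        (fun u hu => CfsgLib.LocalEven.conj_mem_of_mem_normalizer haVn hu)
        (fun u hu => CfsgLib.LocalEven.conj_mem_of_mem_normalizer hyV hu) h4')
  -- every conjugate of `A0` moves `V` into `R`
  exfalso
  have hXR : X ≤ R := le_sup_left.trans hgoal
  have hEsq : ∀ x ∈ E, x * x ∈ centralizer (V : Set G) := by
    intro x hx
    refine mem_centralizer_iff.2 fun v hv => ?_
    have hr : ⁅v, x⁆ ∈ R := hXR (Subgroup.commutator_mem_commutator hv hx)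
    set r := ⁅v, x⁆ with hr0
    have hxv : x * v * x⁻¹ = v * r := by
      have hxvV : x * v * x⁻¹ ∈ V := CfsgLib.LocalEven.conj_mem_of_mem_normalizer (hEV hx) hv
      rw [hr0, commutatorElement_def, inv_eq_of_mul_eq_one_right (hV v hv)]
      calc x * v * x⁻¹ = (v * v) * (x * v * x⁻¹) := by rw [hV v hv, one_mul]
        _ = _ := by group
    have hxr : x * r * x⁻¹ = r := conj_eq_iff_comm.2 (mem_centralizer_iff.1 (hER hr) x hx)
    have h2 : x * x * v * (x * x)⁻¹ = v := by
      calc x * x * v * (x * x)⁻¹ = x * (x * v * x⁻¹) * x⁻¹ := by group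
        _ = x * (v * r) * x⁻¹ := by rw [hxv]
        _ = (x * v * x⁻¹) * (x * r * x⁻¹) := by group
        _ = v := by rw [hxv, hxr, mul_assoc, hV r (hRV hr), mul_one]
    exact (conj_eq_iff_comm.1 h2).symm
  have hWC : W ≤ C := fun v hv => ⟨hWV hv, mem_centralizer_iff.2 fun x hx =>
    (mem_centralizer_iff.1 (hAW hx) v hv).symm⟩
  have hRC : R.relIndex C ≤ 4 := by
    have h := Subgroup.relIndex_mul_relIndex R C V inf_le_left inf_le_left
    rw [hC4] at h
    omega
  have hCW : centralizer (V : Set G) ≤ centralizer (W : Set G) :=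
    centralizer_le (SetLike.coe_subset_coe.2 hWV)
  have heW := hsp E hEQ (hEQ.trans hQW) fun x hx => hCW (hEsq x hx)
  have hEW : idx E W ≤ R.relIndex W := Subgroup.relIndex_le_of_le_left hER (relIndex_ne _ _)
  have hRW : R.relIndex W ≤ R.relIndex C := Subgroup.relIndex_le_of_le_right hWC (relIndex_ne _ _)
  have he' : idx W E ≤ 2 := by nlinarith
  have hA0E : A0 ≤ E := le_iSup_of_le 0 (by rw [pow_zero, cj_one])
  have hcontra : (∀ x ∈ A0, x ∈ centralizer (V : Set G)) → False := fun h => by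
    have := idx_eq_one_iff.2 (show A0 ≤ centralizer (V : Set G) from h)
    omega
  by_cases hsmall : R.relIndex (W ⊔ R) ≤ 2
  · have h1 : R.relIndex W ≤ R.relIndex (W ⊔ R) :=
      Subgroup.relIndex_le_of_le_right le_sup_left (relIndex_ne _ _)
    have h2 : E ≤ centralizer (W : Set G) := idx_eq_one_iff.1 (by
      have := idx_pos W E
      nlinarith)
    refine hcontra fun x hx => ?_
    have hle : V ≤ centralizer (E : Set G) := orbitJoin_le (fun i => by
      have hE' : cj (y ^ i) E = E := cj_eq_self (pow_mem hEy i)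
      rw [← hE', cj_centralizer]
      exact cj_mono _ (le_centralizer_iff.1 h2)) n
    exact le_centralizer_iff.1 hle (hA0E hx)
  have hWRC : C ≤ W ⊔ R := by
    have h := Subgroup.relIndex_mul_relIndex R (W ⊔ R) C le_sup_right (sup_le hWC inf_le_left)
    refine Subgroup.relIndex_eq_one.1 ?_
    have := relIndex_ne (W ⊔ R) C
    by_contra hne
    have := Nat.mul_le_mul (show 3 ≤ R.relIndex (W ⊔ R) by omega) (show 2 ≤ (W ⊔ R).relIndex C by omega)
    omega
  have hgR : cj g R = R := cj_eq_self (mem_normalizer_of_cj_le (by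
    rintro _ ⟨r, hr, rfl⟩
    show g * r * g⁻¹ ∈ R
    obtain ⟨k, hk⟩ : ∃ k : ℕ, y ^ k = g := mem_powers_iff_mem_zpowers.2 hgz
    rw [← hk, hRpow k r hr]; exact hr))
  set W' := cj g W with hW'
  set L0 := W ⊔ W' ⊔ R with hL0
  have hVL : V ≤ L0 := by
    have hC'le : C' ≤ L0 := by
      refine (cj_mono g hWRC).trans ?_
      rw [cj, Subgroup.map_sup]
      exact sup_le (le_sup_right.trans le_sup_left) ((le_of_eq hgR).trans le_sup_right)
    have hCle : C ≤ L0 := hWRC.trans (sup_le (le_sup_left.trans le_sup_left) le_sup_right)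
    have hMV : C ⊔ C' ≤ V := sup_le inf_le_left ((cj_mono g inf_le_left).trans (cj_eq_self hgV).le)
    have h := Subgroup.relIndex_mul_relIndex C (C ⊔ C') V le_sup_left hMV
    rw [hC4] at h
    have h3C : 3 ≤ C.relIndex (C ⊔ C') := by
      have h5 : C.relIndex C' ≤ C.relIndex (C ⊔ C') :=
        Subgroup.relIndex_le_of_le_right le_sup_right (relIndex_ne _ _)
      have h6 : C.relIndex C' = R.relIndex C' := (Subgroup.inf_relIndex_right C C').symm
      have h7 : R.relIndex C' = R.relIndex C := by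
        calc R.relIndex C' = (cj g R).relIndex C' := by rw [hgR]
          _ = _ := Subgroup.relIndex_map_map_of_injective _ _ (MulAut.conj g).injective
      have h8 : R.relIndex (W ⊔ R) ≤ R.relIndex C :=
        Subgroup.relIndex_le_of_le_right (sup_le hWC inf_le_left) (relIndex_ne _ _)
      omega
    have h9 : (C ⊔ C').relIndex V = 1 := by
      have := relIndex_ne (C ⊔ C') V
      by_contra hne
      have := Nat.mul_le_mul h3C (show 2 ≤ (C ⊔ C').relIndex V by omega)
      omega
    exact (Subgroup.relIndex_eq_one.1 h9).trans (sup_le hCle hC'le)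
  have hgE : g ∈ normalizer (E : Set G) := zpowers_le.2 hEy hgz
  have he'' : idx W' E ≤ 2 := by
    have : idx W' (cj g E) = idx W E := idx_cj g W E
    rw [cj_eq_self hgE] at this
    omega
  set L := centralizer (V : Set G) ⊓ E with hL
  have hkill : centralizer (W : Set G) ⊓ centralizer (W' : Set G) ⊓ E ≤ L := by
    rintro x ⟨⟨h1, h2⟩, h3x⟩
    refine ⟨mem_centralizer_iff.2 fun v hv => ?_, h3x⟩
    have hle : L0 ≤ centralizer ({x} : Set G) :=
      sup_le (sup_le (fun u hu => mem_centralizer_singleton_iff.2 (mem_centralizer_iff.1 h1 u hu))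
        (fun u hu => mem_centralizer_singleton_iff.2 (mem_centralizer_iff.1 h2 u hu)))
        (fun u hu => mem_centralizer_singleton_iff.2 (mem_centralizer_iff.1 (hER hu) x h3x).symm)
    exact mem_centralizer_singleton_iff.1 (hle (hVL hv))
  have hL4 : L.relIndex E ≤ 4 := by
    have h10 : L.relIndex E ≤ (centralizer (W : Set G) ⊓ centralizer (W' : Set G) ⊓ E).relIndex E :=
      Subgroup.relIndex_le_of_le_left hkill (relIndex_ne _ _)
    rw [Subgroup.inf_relIndex_right (centralizer (W : Set G) ⊓ centralizer (W' : Set G)) E] at h10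
    exact h10.trans (Subgroup.relIndex_inf_le.trans (Nat.mul_le_mul he' he''))
  have hgL : g ∈ normalizer (L : Set G) := mem_normalizer_of_cj_le (by
    rintro _ ⟨x, hx, rfl⟩
    refine ⟨?_, CfsgLib.LocalEven.conj_mem_of_mem_normalizer hgE hx.2⟩
    have h := conj_mem_cj (g := g) hx.1
    rwa [← cj_centralizer, cj_eq_self hgV] at h)
  refine hcontra fun x hx => ?_
  have hz := conj_mem_of_index_le_four hgE hgL hL4 hgodd hg3 x (hA0E hx)
  refine (hkill ⟨⟨?_, ?_⟩, hA0E hx⟩).1
  · exact hAW hx.1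
  · have h1 : g * x * g⁻¹ ∈ cj g (centralizer (W : Set G)) := conj_mem_cj (hAW hx.1)
    rw [← cj_centralizer] at h1
    have h2 : centralizer (V : Set G) ≤ centralizer (W' : Set G) :=
      centralizer_le (SetLike.coe_subset_coe.2 ((cj_mono g hWV).trans (cj_eq_self hgV).le))
    have h3x := mul_mem h1 (inv_mem (h2 hz.1))
    simpa [mul_assoc] using h3x

end CfsgLib.SFreeLocals
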