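import Cfsg.Agent.Lib.LocalEven.SolvableOffender
import Cfsg.Agent.Lib.LocalEven.CoprimeGen
import Cfsg.Agent.Lib.LocalEven.Basic

/-!
Elementary abelian groups of automorphisms of an elementary abelian 2-group inside a solvable group
with trivial 2-core and without inverted element of order three.
-/

set_option autoImplicit false

namespace CfsgLib.SFreeLocals

open Subgroup

universe u

variable {V : Type u} [Group V] [Finite V]

/-- The points fixed by every element of `E`. -/
def fixPts (E : Subgroup (MulAut V)) : Subgroup V where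
  carrier := {v | ∀ e ∈ E, e v = v}
  one_mem' := fun e _ => map_one e
  mul_mem' := fun {x y} hx hy e he => by rw [map_mul, hx e he, hy e he]
  inv_mem' := fun {x} hx e he => by rw [map_inv, hx e he]

theorem mem_fixPts {E : Subgroup (MulAut V)} {v : V} : v ∈ fixPts E ↔ ∀ e ∈ E, e v = v := Iff.rfl

theorem comm_of_sq (hV : ∀ v : V, v * v = 1) (u v : V) : u * v = v * u := by
  have h := inv_eq_of_mul_eq_one_right (hV (u * v))
  rw [mul_inv_rev, inv_eq_of_mul_eq_one_right (hV u), inv_eq_of_mul_eq_one_right (hV v)] at h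
  exact h.symm

/-- A permutation of at most four points with a fixed point and order prime to six is trivial. -/
theorem perm_eq_one {α : Type*} [Finite α] (hα : Nat.card α ≤ 4) (σ : Equiv.Perm α) {z : α}
    (hz : σ z = z) {n : ℕ} (hn : σ ^ n = 1) (hn2 : Odd n) (hn3 : ¬ 3 ∣ n) : σ = 1 := by
  classical
  have := Fintype.ofFinite α
  set τ : Equiv.Perm {x // x ≠ z} := σ.subtypePerm (fun x => by
    constructor
    · intro h hx; exact h (by rw [hx, hz])
    · intro h hx; exact h (σ.injective (by rw [hx, hz]))) with hτ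
  have hc : Nat.card {x // x ≠ z} ≤ 3 := by
    rw [Nat.card_eq_fintype_card, Fintype.card_subtype_compl, Fintype.card_subtype_eq,
      ← Nat.card_eq_fintype_card]
    omega
  have h1 : orderOf τ ∣ Nat.factorial 3 := by
    refine (orderOf_dvd_natCard τ).trans ?_
    rw [Nat.card_perm]
    exact Nat.factorial_dvd_factorial hc
  have h2 : orderOf τ ∣ n := by
    refine orderOf_dvd_of_pow_eq_one ?_
    rw [hτ, Equiv.Perm.subtypePerm_pow]
    ext x
    simp [hn]
  have hcop : (Nat.factorial 3).Coprime n := by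
    show Nat.Coprime (2 * 3) n
    exact Nat.Coprime.mul_left (Nat.coprime_two_left.2 hn2)
      ((Nat.Prime.coprime_iff_not_dvd Nat.prime_three).2 hn3)
  have h3 : τ = 1 := orderOf_eq_one_iff.1 (Nat.eq_one_of_dvd_coprimes hcop h1 h2)
  ext x
  by_cases hx : x = z
  · rw [hx, hz]; rfl
  · have := congrArg (fun π => (π ⟨x, hx⟩ : α)) h3
    simpa [hτ] using this

/-- An element inverted by an involution with a hyperplane of points fixed modulo `R`. -/
theorem fixed_of_transvection (hV : ∀ v : V, v * v = 1) {a y : MulAut V} (ha : a * a = 1)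
    (hinv : a * y * a⁻¹ = y⁻¹) (hy : Odd (orderOf y)) (h3 : ¬ 3 ∣ orderOf y)
    (U R D : Subgroup V) (hRy : ∀ r ∈ R, y r = r) (hRa : ∀ r ∈ R, a r ∈ R)
    (haU : ∀ u ∈ U, a u ∈ U) (hyU : ∀ u ∈ U, y u ∈ U)
    (hD : ∀ u, u ∈ D ↔ u ∈ U ∧ a u * u ∈ R) (hidx : D.relIndex U ≤ 2) :
    ∀ u ∈ U, y u = u := by
  classical
  have hc := comm_of_sq hV
  obtain ⟨m, hm⟩ := hy
  set n := orderOf y with hn
  set g : MulAut V := (y ^ (m + 1))⁻¹ with hg
  have hainv : a⁻¹ = a := inv_eq_of_mul_eq_one_right ha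
  have hag : ∀ k : ℕ, a * y ^ k * a⁻¹ = (y ^ k)⁻¹ := fun k => by
    rw [← conj_pow, hinv, inv_pow]
  have hconj : g * a * g⁻¹ = a * y := by
    have h1 : a * y ^ (m + 1) = (y ^ (m + 1))⁻¹ * a := by
      have := congrArg (· * a) (hag (m + 1))
      simpa [mul_assoc] using this
    have h2 : g * a * g⁻¹ = (y ^ (m + 1) * y ^ (m + 1))⁻¹ * a := by
      rw [hg, inv_inv, mul_assoc, h1, ← mul_assoc, mul_inv_rev]
    have h4 : a * y = y⁻¹ * a := by
      have := congrArg (· * a) hinv
      simpa [mul_assoc] using this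
    rw [h2, h4, ← pow_add, show m + 1 + (m + 1) = n + 1 by omega, pow_succ, hn,
      pow_orderOf_eq_one, one_mul]
  have hyU' : ∀ (k : ℕ), ∀ u ∈ U, (y ^ k) u ∈ U := by
    intro k
    induction k with
    | zero => intro u hu; simpa using hu
    | succ k ih => intro u hu; rw [pow_succ, MulAut.mul_apply]; exact ih _ (hyU u hu)
  have hRy' : ∀ (k : ℕ), ∀ r ∈ R, (y ^ k) r = r := by
    intro k
    induction k with
    | zero => intro r _; simp
    | succ k ih => intro r hr; rw [pow_succ, MulAut.mul_apply, hRy r hr]; exact ih r hr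
  set D' : Subgroup V := D.comap (y ^ (m + 1)).toMonoidHom with hD'
  have hD'idx : D'.relIndex U ≤ 2 := by
    have hU : U = U.comap (y ^ (m + 1)).toMonoidHom := by
      refine (Subgroup.eq_of_le_of_card_ge (fun u hu => hyU' _ u hu) ?_)
      exact le_of_eq (Subgroup.card_map_of_injective (K := U.comap (y ^ (m + 1)).toMonoidHom)
        (f := (y ^ (m + 1)).toMonoidHom) (y ^ (m + 1)).injective).symm |>.trans
        (le_of_eq (by rw [Subgroup.map_comap_eq_self_of_surjective (y ^ (m + 1)).surjective]))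
    rw [hD', hU, Subgroup.relIndex_comap, Subgroup.map_comap_eq_self_of_surjective
      (y ^ (m + 1)).surjective]
    exact hidx
  set R' := D ⊓ D' with hR'
  have hR'idx : R'.relIndex U ≤ 4 :=
    Subgroup.relIndex_inf_le.trans (Nat.mul_le_mul hidx hD'idx)
  have hR'y : ∀ r ∈ R', y r * r ∈ R := by
    intro r hr
    have hr2 : a ((y ^ (m + 1)) r) * (y ^ (m + 1)) r ∈ R := ((hD _).1 hr.2).2
    have h5 : g (a ((y ^ (m + 1)) r) * (y ^ (m + 1)) r) = (a * y) r * r := by
      rw [map_mul]
      congr 1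
      · rw [← hconj, hg, inv_inv]; rfl
      · rw [hg, ← MulAut.mul_apply, inv_mul_cancel, MulAut.one_apply]
    have h6 : (a * y) r * r ∈ R := by
      rw [← h5, hg, MulAut.inv_def]
      rw [← hRy' (m + 1) _ hr2, MulEquiv.symm_apply_apply]
      exact hr2
    rw [MulAut.mul_apply] at h6
    have h7 := mul_mem (hRa _ h6) ((hD r).1 hr.1).2
    rw [map_mul, show a (a (y r)) = y r from by rw [← MulAut.mul_apply, ha, MulAut.one_apply]] at h7
    have h8 : y r * a r * (a r * r) = y r * r := by
      rw [mul_assoc, ← mul_assoc (a r), hV, one_mul]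
    rwa [h8] at h7
  have hR'U : R' ≤ U := fun r hr => ((hD r).1 hr.1).1
  have hinvR' : ∀ r ∈ R', y r ∈ R' := by
    have hRR' : ∀ r ∈ R, r ∈ U → r ∈ R' := fun r hr hu => by
      refine ⟨(hD r).2 ⟨hu, mul_mem (hRa r hr) hr⟩, ?_⟩
      show (y ^ (m + 1)) r ∈ D
      rw [hRy' _ r hr]
      exact (hD r).2 ⟨hu, mul_mem (hRa r hr) hr⟩
    intro r hr
    have h1 := hRR' _ (hR'y r hr) (mul_mem (hyU r (hR'U hr)) (hR'U hr))
    have h2 := mul_mem h1 hr
    rwa [mul_assoc, hV, mul_one] at h2
  -- the permutation induced on the cosets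
  set K := R'.subgroupOf U with hK
  have hcard : Nat.card (↥U ⧸ K) ≤ 4 := hR'idx
  let yU : ↥U → ↥U := fun u => ⟨y u, hyU u u.2⟩
  let f : ↥U ⧸ K → ↥U ⧸ K := Quotient.map' yU fun u v h => by
    rw [QuotientGroup.leftRel_apply] at h ⊢
    show (y (u : V))⁻¹ * y v ∈ R'
    rw [← map_inv, ← map_mul]
    exact hinvR' _ h
  have hfb : Function.Bijective f := by
    refine (Finite.surjective_iff_bijective).1 fun q => ?_
    induction q using Quotient.inductionOn' with
    | h u =>
      have hs : Function.Surjective yU :=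
        Finite.surjective_of_injective fun a b h => Subtype.ext (y.injective (congrArg Subtype.val h))
      obtain ⟨u', rfl⟩ := hs u
      exact ⟨Quotient.mk'' u', rfl⟩
  set σ := Equiv.ofBijective f hfb with hσ
  have hσk : ∀ (k : ℕ) (u : ↥U), (σ ^ k) (Quotient.mk'' u) =
      Quotient.mk'' (⟨(y ^ k) u, hyU' k u u.2⟩ : ↥U) := by
    intro k
    induction k with
    | zero => intro u; rfl
    | succ k ih =>
      intro u
      rw [pow_succ, Equiv.Perm.mul_apply]
      show (σ ^ k) (Quotient.mk'' (yU u)) = _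
      rw [ih]
      congr 1
  have hσ1 : σ = 1 := by
    refine perm_eq_one hcard σ (z := Quotient.mk'' (1 : ↥U)) ?_ (n := n) ?_ ⟨m, hm⟩ h3
    · show Quotient.mk'' (yU 1) = _
      congr 1
      exact Subtype.ext (map_one y)
    · ext q
      induction q using Quotient.inductionOn' with
      | h u =>
        rw [hσk]
        simp [hn, pow_orderOf_eq_one]
  intro u hu
  have hr : u⁻¹ * y u ∈ R' := by
    have h := congrArg (fun π : Equiv.Perm (↥U ⧸ K) => π (Quotient.mk'' (⟨u, hu⟩ : ↥U))) hσ1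
    simp only [hσ, Equiv.ofBijective_apply, Equiv.Perm.one_apply] at h
    have h' : ((⟨u, hu⟩ : ↥U) : ↥U ⧸ K) = ((yU ⟨u, hu⟩ : ↥U) : ↥U ⧸ K) := h.symm
    have h'' := QuotientGroup.eq.1 h'
    exact h''
  set r := u⁻¹ * y u with hr0
  have hyu : y u = u * r := by rw [hr0, mul_inv_cancel_left]
  have h2 : (y ^ 2) u = u * (y r * r) := by
    rw [pow_two, MulAut.mul_apply, hyu, map_mul, hyu, mul_assoc, hc r]
  have h4 : (y ^ 4) u = u := by
    rw [show 4 = 2 + 2 from rfl, pow_add, MulAut.mul_apply, h2, map_mul, h2,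
      hRy' 2 _ (hR'y r hr), mul_assoc, hV, mul_one]
  have hcop : Nat.Coprime 4 n := by
    show Nat.Coprime (2 ^ 2) n
    exact (Nat.coprime_two_left.2 ⟨m, hm⟩).pow_left 2
  have hmem : y ∈ MulAction.stabilizer (MulAut V) u :=
    mem_of_pow_mem_of_coprime_order (y := y) hcop h4
  exact hmem
where
  mem_of_pow_mem_of_coprime_order {u : V} {y : MulAut V} {k : ℕ} (hk : Nat.Coprime k (orderOf y))
      (h : (y ^ k) u = u) : y ∈ MulAction.stabilizer (MulAut V) u := by
    have h1 : y ^ k ∈ MulAction.stabilizer (MulAut V) u := h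
    obtain ⟨j, hj⟩ := exists_pow_eq_self_of_coprime (x := y) (n := k) hk
    exact hj ▸ pow_mem h1 j

/-- Thompson's argument for a fixed-point subgroup of a 2-group commuting with an odd element. -/
theorem eq_one_of_fix (hV : ∀ v : V, v * v = 1) {E : Subgroup (MulAut V)} (hE : IsPGroup 2 E)
    {y : MulAut V} (hy : Odd (orderOf y)) (hc : ∀ e ∈ E, e * y = y * e)
    (hfix : ∀ v ∈ fixPts E, y v = v) : y = 1 := by
  classical
  have hcm := comm_of_sq hV
  by_contra hne
  let ψ : V →* V :=
    { toFun := fun v => v * y v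
      map_one' := by simp
      map_mul' := fun u v => by
        rw [map_mul]
        calc u * v * (y u * y v) = u * (v * y u) * y v := by group
          _ = u * (y u * v) * y v := by rw [hcm v]
          _ = u * y u * (v * y v) := by group }
  set X := ψ.range with hX
  have hXE : ∀ e ∈ E, ∀ v ∈ X, e v ∈ X := by
    rintro e he _ ⟨u, rfl⟩
    refine ⟨e u, ?_⟩
    show e u * y (e u) = e (u * y u)
    rw [map_mul, show y (e u) = e (y u) from by rw [← MulAut.mul_apply, ← hc e he, MulAut.mul_apply]]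
  letI : MulAction ↥E ↥X :=
    { smul := fun e v => ⟨(e : MulAut V) v, hXE e e.2 v v.2⟩
      one_smul := fun v => Subtype.ext rfl
      mul_smul := fun a b v => Subtype.ext rfl }
  have hX1 : X ≠ ⊥ := by
    intro h
    apply hne
    ext v
    have : ψ v ∈ (⊥ : Subgroup V) := h ▸ ⟨v, rfl⟩
    rw [Subgroup.mem_bot] at this
    rw [MulAut.one_apply]
    exact (inv_eq_of_mul_eq_one_right this).symm.trans (inv_eq_of_mul_eq_one_right (hV v))
  have h2 : 2 ∣ Nat.card ↥X := by
    have : Fact (Nat.Prime 2) := ⟨Nat.prime_two⟩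
    have : Nontrivial ↥X := (Subgroup.nontrivial_iff_ne_bot X).2 hX1
    have hp : IsPGroup 2 ↥X := fun v => ⟨1, Subtype.ext (by simpa [pow_two] using hV (v : V))⟩
    obtain ⟨k, hk, hcard⟩ := hp.nontrivial_iff_card.1 inferInstance
    rw [hcard]; exact dvd_pow_self 2 hk.ne'
  obtain ⟨b, hb, hb1⟩ := hE.exists_fixed_point_of_prime_dvd_card_of_fixed_point ↥X h2
    (a := (1 : ↥X)) (fun e => Subtype.ext (map_one (e : MulAut V)))
  apply hb1
  obtain ⟨u, hu⟩ := b.2
  have hbf : (b : V) ∈ fixPts E := fun e he => congrArg Subtype.val (hb ⟨e, he⟩)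
  have hyb := hfix _ hbf
  set n := orderOf y with hn
  have hpow : ∀ k, ((y ^ k) (b : V)) = b := by
    intro k
    induction k with
    | zero => simp
    | succ k ih => rw [pow_succ, MulAut.mul_apply, hyb, ih]
  have htel : ∀ k, (b : V) ^ k = u * (y ^ k) u := by
    intro k
    induction k with
    | zero => simpa using (hV u).symm
    | succ k ih =>
      rw [pow_succ, ih]
      nth_rw 1 [← hpow k]
      rw [← hu]
      show u * (y ^ k) u * (y ^ k) (u * y u) = _
      rw [map_mul, ← mul_assoc, mul_assoc u, hV, mul_one, pow_succ, MulAut.mul_apply]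
  have h0 := htel n
  rw [hn, pow_orderOf_eq_one, MulAut.one_apply, hV] at h0
  have hb2 : (b : V) ^ 2 = 1 := by rw [pow_two]; exact hV _
  have : orderOf (b : V) = 1 := by
    refine Nat.eq_one_of_dvd_coprimes (Nat.coprime_two_left.2 hy) (orderOf_dvd_of_pow_eq_one hb2)
      (orderOf_dvd_of_pow_eq_one h0)
  exact (Subtype.ext (orderOf_eq_one_iff.1 this).symm)

/-- A nontrivial element of a four group outside a subgroup meeting it trivially. -/
theorem notMem_four {X : Type*} [Group X] {E₀ : Subgroup X} {u v x : X} (hu : u * u = 1)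
    (hv : v * v = 1) (huv : u * v = v * u) (hx : x ∈ zpowers u ⊔ zpowers v) (hx1 : x ≠ 1)
    (hu0 : u ∉ E₀) (hv0 : v ∉ E₀ ⊔ zpowers u) : x ∉ E₀ := by
  let T : Subgroup X :=
    { carrier := {x | x = 1 ∨ x = u ∨ x = v ∨ x = u * v}
      one_mem' := Or.inl rfl
      mul_mem' := by
        have e1 : u * (u * v) = v := by rw [← mul_assoc, hu, one_mul]
        have e2 : v * (u * v) = u := by rw [huv, ← mul_assoc, hv, one_mul]
        have e3 : u * v * v = u := by rw [mul_assoc, hv, mul_one]
        have e4 : u * v * u = v := by rw [huv, mul_assoc, hu, mul_one]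
        have e5 : u * v * (u * v) = 1 := by rw [mul_assoc, e2, hu]
        rintro a b (rfl | rfl | rfl | rfl) (rfl | rfl | rfl | rfl) <;>
          simp [hu, hv, huv.symm, e1, e2, e3, e4, e5]
      inv_mem' := by
        rintro a (rfl | rfl | rfl | rfl)
        · exact Or.inl inv_one
        · exact Or.inr (Or.inl (inv_eq_of_mul_eq_one_right hu))
        · exact Or.inr (Or.inr (Or.inl (inv_eq_of_mul_eq_one_right hv)))
        · refine Or.inr (Or.inr (Or.inr ?_))
          rw [mul_inv_rev, inv_eq_of_mul_eq_one_right hu, inv_eq_of_mul_eq_one_right hv, huv] }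
  have hT : zpowers u ⊔ zpowers v ≤ T :=
    sup_le (zpowers_le.2 (Or.inr (Or.inl rfl))) (zpowers_le.2 (Or.inr (Or.inr (Or.inl rfl))))
  intro h0
  rcases hT hx with rfl | rfl | rfl | rfl
  · exact hx1 rfl
  · exact hu0 h0
  · exact hv0 (mem_sup_left h0)
  · have h := mul_mem (mem_sup_right (S := E₀) (inv_mem (mem_zpowers u))) (mem_sup_left h0)
    rw [inv_mul_cancel_left] at h
    exact hv0 h

/-- Elements of an odd group inverted by one element and centralised by a complement generate
together with the fixed points. -/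
theorem le_of_inverted {X : Type*} [Group X] [Finite X] {E P H : Subgroup X}
    (hE : ∀ e ∈ E, e * e = 1) (hEc : ∀ e ∈ E, ∀ f ∈ E, e * f = f * e)
    (hEP : E ≤ normalizer (P : Set X)) (hP : Odd (Nat.card P))
    (hfix : ∀ r ∈ P, (∀ e ∈ E, e * r = r * e) → r ∈ H)
    (hinv : ∀ E₀ : Subgroup X, E₀ ≤ E → ∀ e ∈ E, E ≤ E₀ ⊔ zpowers e → ∀ z ∈ P,
      e * z * e⁻¹ = z⁻¹ → (∀ f ∈ E₀, f * z = z * f) → z ∈ H) : P ≤ H := by
  classical
  have : Fact (Nat.Prime 2) := ⟨Nat.prime_two⟩
  suffices hs : ∀ n, ∀ E₀ : Subgroup X, E₀ ≤ E → Nat.card E - Nat.card E₀ ≤ n →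
      ∀ r ∈ P, (∀ f ∈ E₀, f * r = r * f) → r ∈ H by
    intro r hr
    exact hs _ ⊥ bot_le le_rfl r hr (fun f hf => by rw [Subgroup.mem_bot.1 hf]; simp)
  intro n
  induction n with
  | zero =>
    intro E₀ hE₀ hn r hr hc
    have hEq : E₀ = E := Subgroup.eq_of_le_of_card_ge hE₀ (by omega)
    exact hfix r hr (hEq ▸ hc)
  | succ n ih =>
    intro E₀ hE₀ hn r hr hc
    have hlarger : ∀ x ∈ E, x ∉ E₀ → ∀ s ∈ P, (∀ f ∈ E₀, f * s = s * f) → x * s = s * x → s ∈ H := by
      intro x hx hx0 s hs hsc hxs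
      have hlt : E₀ < E₀ ⊔ zpowers x :=
        lt_of_le_of_ne le_sup_left fun h => hx0 (h.symm.le (mem_sup_right (mem_zpowers x)))
      have hle : E₀ ⊔ zpowers x ≤ E := sup_le hE₀ (zpowers_le.2 hx)
      have hcard : Nat.card E₀ < Nat.card ↥(E₀ ⊔ zpowers x) := by
        refine lt_of_le_of_ne (Subgroup.card_le_of_le hlt.le) fun h => hlt.ne ?_
        exact Subgroup.eq_of_le_of_card_ge hlt.le h.ge
      refine ih _ hle (by omega) s hs ?_
      have : E₀ ⊔ zpowers x ≤ centralizer ({s} : Set X) :=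
        sup_le (fun f hf => mem_centralizer_singleton_iff.2 (hsc f hf))
          (zpowers_le.2 (mem_centralizer_singleton_iff.2 hxs))
      exact fun f hf => mem_centralizer_singleton_iff.1 (this hf)
    by_cases hEle : E ≤ E₀
    · exact hfix r hr fun e he => hc e (hEle he)
    obtain ⟨u, hu, hu0⟩ := SetLike.not_le_iff_exists.1 hEle
    have huinv : u⁻¹ = u := inv_eq_of_mul_eq_one_right (hE u hu)
    by_cases hcyc : E ≤ E₀ ⊔ zpowers u
    · set z := r * (u * r⁻¹ * u⁻¹) with hz
      have hzP : z ∈ P := mul_mem hr ((mem_normalizer_iff.1 (hEP hu) r⁻¹).1 (inv_mem hr))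
      have hzc : ∀ f ∈ E₀, f * z = z * f := fun f hf => by
        have h1 : Commute f r := hc f hf
        have h2 : Commute f u := hEc f (hE₀ hf) u hu
        exact h1.mul_right ((h2.mul_right h1.inv_right).mul_right h2.inv_right)
      have hzinv : u * z * u⁻¹ = z⁻¹ := by
        simp only [hz, huinv, mul_inv_rev, inv_inv]
        calc u * (r * (u * r⁻¹ * u)) * u = u * r * u * r⁻¹ * (u * u) := by group
          _ = u * (r * u) * r⁻¹ := by rw [hE u hu]; group
      have hzH := hinv E₀ hE₀ u hu hcyc z hzP hzinv hzc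
      obtain ⟨j, hj⟩ : ∃ j, (z ^ j) * (z ^ j) = z := by
        have hodd : Odd (orderOf z) :=
          hP.of_dvd_nat (Subgroup.orderOf_dvd_natCard _ hzP)
        obtain ⟨m, hm⟩ := hodd
        refine ⟨m + 1, ?_⟩
        rw [← pow_add, show m + 1 + (m + 1) = orderOf z + 1 by omega, pow_succ, pow_orderOf_eq_one,
          one_mul]
      set t := z ^ j with ht
      have hti : u * t * u⁻¹ = t⁻¹ := by rw [ht, ← conj_pow, hzinv, inv_pow]
      have hur : u * r * u⁻¹ = z⁻¹ * r := by
        simp only [hz, mul_inv_rev, inv_inv]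
        group
      have hs : u * (t⁻¹ * r) = (t⁻¹ * r) * u := by
        have h1 : u * (t⁻¹ * r) * u⁻¹ = t⁻¹ * r := by
          calc u * (t⁻¹ * r) * u⁻¹ = (u * t * u⁻¹)⁻¹ * (u * r * u⁻¹) := by group
            _ = t * (t * t)⁻¹ * r := by rw [hti, hur, inv_inv, hj]; group
            _ = t⁻¹ * r := by group
        exact mul_inv_eq_iff_eq_mul.1 h1
      have hfx : t⁻¹ * r ∈ H :=
        hfix _ (mul_mem (inv_mem (pow_mem hzP j)) hr) fun e he => by
          have hle : E₀ ⊔ zpowers u ≤ centralizer ({t⁻¹ * r} : Set X) :=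
            sup_le (fun f hf => mem_centralizer_singleton_iff.2
              ((((show Commute f z from hzc f hf).pow_right j).inv_right).mul_right (hc f hf)))
              (zpowers_le.2 (mem_centralizer_singleton_iff.2 hs))
          exact mem_centralizer_singleton_iff.1 (hle (hcyc he))
      have h := mul_mem (pow_mem hzH j) hfx
      rwa [ht, mul_inv_cancel_left] at h
    obtain ⟨v, hv, hv0⟩ := SetLike.not_le_iff_exists.1 hcyc
    set R : Subgroup X := P ⊓ centralizer (E₀ : Set X) with hR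
    set U := zpowers u ⊔ zpowers v with hU
    have hUE : U ≤ E := sup_le (zpowers_le.2 hu) (zpowers_le.2 hv)
    have hUel : Cfsg.IsElementaryAbelian 2 U :=
      ⟨⟨⟨fun a b => Subtype.ext (hEc _ (hUE a.2) _ (hUE b.2))⟩⟩,
        fun a ha => by rw [pow_two]; exact hE a (hUE ha)⟩
    have hUnc : ¬ IsCyclic ↥U := by
      intro hcy
      obtain ⟨⟨g, hg⟩, hgen⟩ := hcy.exists_generator
      have h1 : ∀ x ∈ U, x = 1 ∨ x = g := fun x hx => by
        obtain ⟨i, hi⟩ := mem_zpowers_iff.1 (hgen ⟨x, hx⟩)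
        have hi' : g ^ i = x := by simpa using congrArg Subtype.val hi
        have hg2 : g ^ (2 : ℤ) = 1 := by rw [zpow_two]; exact hE g (hUE hg)
        obtain ⟨j, rfl⟩ | ⟨j, rfl⟩ := Int.even_or_odd i
        · left; rw [← hi', ← two_mul, zpow_mul, hg2, one_zpow]
        · right; rw [← hi', zpow_add_one, zpow_mul, hg2, one_zpow, one_mul]
      have hu1 : u ≠ 1 := fun h => hu0 (h ▸ one_mem _)
      have hv1 : v ≠ 1 := fun h => hv0 (h ▸ one_mem _)
      have hug := (h1 u (mem_sup_left (mem_zpowers u))).resolve_left hu1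
      have hvg := (h1 v (mem_sup_right (mem_zpowers v))).resolve_left hv1
      exact hv0 (mem_sup_right (by rw [hug, ← hvg]; exact mem_zpowers v))
    have hUR : U ≤ normalizer (R : Set X) := fun x hx => by
      refine CfsgLib.LocalEven.mem_normalizer_of_conj_le ?_
      rintro _ ⟨s, hs, rfl⟩
      refine ⟨(mem_normalizer_iff.1 (hEP (hUE hx)) s).1 hs.1, mem_centralizer_iff.2 fun f hf => ?_⟩
      have h1 : Commute f x := hEc f (hE₀ hf) x (hUE hx)
      have h2 : Commute f s := mem_centralizer_iff.1 hs.2 f hf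
      exact (h1.mul_right h2).mul_right h1.inv_right
    have hRodd : ¬ 2 ∣ Nat.card ↥R := fun h =>
      Nat.not_even_iff_odd.2 hP (even_iff_two_dvd.2 (h.trans (Subgroup.card_dvd_of_le inf_le_left)))
    have hRH : R ≤ H := by
      refine CfsgLib.LocalEven.CopGen.le_of_fixed hUel hUnc hUR hRodd ?_
      intro x hx hx1 s hs hxs
      refine hlarger x (hUE hx) ?_ s hs.1 (fun f hf => mem_centralizer_iff.1 hs.2 f hf) hxs
      exact notMem_four (hE u hu) (hE v hv) (hEc u hu v hv) hx hx1 hu0 hv0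
    exact hRH ⟨hr, mem_centralizer_iff.2 hc⟩

end CfsgLib.SFreeLocals
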