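import Cfsg.Agent.Lib.SFreeLocals.Basic
import Cfsg.Agent.Lib.Solvable.CoprimeAction

/-!
An elementary abelian subgroup with a sparse action is contained in every 2-core containing it
up to index two.
-/

set_option autoImplicit false

namespace CfsgLib.SFreeLocals

open Subgroup
open scoped commutatorElement

universe u

variable {G : Type u} [Group G] [Finite G]

theorem two_cosets {C R : Subgroup G} (h : C.relIndex R ≤ 2) :
    ∃ r₀ ∈ R, ∀ r ∈ R, r ∈ C ∨ r₀⁻¹ * r ∈ C := by
  by_cases hle : R ≤ C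
  · exact ⟨1, one_mem _, fun r hr => Or.inl (hle hr)⟩
  obtain ⟨r₀, hr₀, hr₀C⟩ := SetLike.not_le_iff_exists.1 hle
  refine ⟨r₀, hr₀, fun r hr => ?_⟩
  have h2 : (C.subgroupOf R).index = 2 := by
    have h0 : C.relIndex R ≠ 0 := relIndex_ne _ _
    have h1 : C.relIndex R ≠ 1 := fun e => hle (Subgroup.relIndex_eq_one.1 e)
    show C.relIndex R = 2
    omega
  by_cases hrC : r ∈ C
  · exact Or.inl hrC
  · refine Or.inr ?_
    have := (Subgroup.mul_mem_iff_of_index_two h2 (a := (⟨r₀, hr₀⟩ : ↥R)⁻¹) (b := ⟨r, hr⟩)).2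
      (iff_of_false (fun h' => hr₀C ((inv_mem_iff (x := r₀)).1 h')) hrC)
    exact this

/-- An element of order prime to six fixes all cosets of a subgroup of index at most four. -/
theorem conj_mem_of_index_le_four {M Z : Subgroup G} {y : G} (hyM : y ∈ normalizer (M : Set G))
    (hyZ : y ∈ normalizer (Z : Set G)) (hidx : Z.relIndex M ≤ 4) (hy : Odd (orderOf y))
    (h3 : ¬ 3 ∣ orderOf y) : ∀ m ∈ M, m⁻¹ * (y * m * y⁻¹) ∈ Z := by
  classical
  set K := Z.subgroupOf M
  have hpowM : ∀ k : ℕ, y ^ k ∈ normalizer (M : Set G) := fun k => pow_mem hyM k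
  let yM : ↥M → ↥M := fun m =>
    ⟨y * m * y⁻¹, CfsgLib.LocalEven.conj_mem_of_mem_normalizer hyM m.2⟩
  let f : ↥M ⧸ K → ↥M ⧸ K := Quotient.map' yM fun u v h => by
    rw [QuotientGroup.leftRel_apply] at h ⊢
    show (y * (u : G) * y⁻¹)⁻¹ * (y * v * y⁻¹) ∈ Z
    have h' : y * ((u : G)⁻¹ * v) * y⁻¹ ∈ Z := CfsgLib.LocalEven.conj_mem_of_mem_normalizer hyZ h
    simpa [mul_assoc] using h'
  have hfb : Function.Bijective f := by
    refine (Finite.surjective_iff_bijective).1 fun q => ?_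
    induction q using Quotient.inductionOn' with
    | h u =>
      have hs : Function.Surjective yM := Finite.surjective_of_injective fun a b h =>
        Subtype.ext (mul_right_cancel (mul_left_cancel (mul_assoc y (a : G) y⁻¹ ▸ mul_assoc y (b : G) y⁻¹ ▸
          congrArg Subtype.val h : y * ((a : G) * y⁻¹) = y * ((b : G) * y⁻¹))))
      obtain ⟨u', rfl⟩ := hs u
      exact ⟨Quotient.mk'' u', rfl⟩
  set σ := Equiv.ofBijective f hfb with hσ
  have hσk : ∀ (k : ℕ) (u : ↥M), (σ ^ k) (Quotient.mk'' u) =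
      Quotient.mk'' (⟨y ^ k * u * (y ^ k)⁻¹,
        CfsgLib.LocalEven.conj_mem_of_mem_normalizer (hpowM k) u.2⟩ : ↥M) := by
    intro k
    induction k with
    | zero => intro u; simp
    | succ k ih =>
      intro u
      rw [pow_succ, Equiv.Perm.mul_apply]
      show (σ ^ k) (Quotient.mk'' (yM u)) = _
      rw [ih]
      congr 1
      apply Subtype.ext
      simp [yM, pow_succ, mul_assoc]
  have hσ1 : σ = 1 := by
    refine perm_eq_one hidx σ (z := Quotient.mk'' (1 : ↥M)) ?_ (n := orderOf y) ?_ hy h3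
    · show Quotient.mk'' (yM 1) = _
      congr 1
      exact Subtype.ext (by simp [yM])
    · ext q
      induction q using Quotient.inductionOn' with
      | h u =>
        rw [hσk, Equiv.Perm.one_apply]
        congr 1
        apply Subtype.ext
        simp [pow_orderOf_eq_one]
  intro m hm
  have h := congrArg (fun π : Equiv.Perm (↥M ⧸ K) => π (Quotient.mk'' (⟨m, hm⟩ : ↥M))) hσ1
  simp only [hσ, Equiv.ofBijective_apply, Equiv.Perm.one_apply] at h
  have h' : ((⟨m, hm⟩ : ↥M) : ↥M ⧸ K) = ((yM ⟨m, hm⟩ : ↥M) : ↥M ⧸ K) := h.symm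
  have h'' := QuotientGroup.eq.1 h'
  exact h''

theorem mem_of_sq_mem {H : Subgroup G} {y : G} (hy : Odd (orderOf y)) (h : y * y ∈ H) : y ∈ H := by
  obtain ⟨m, hm⟩ := hy
  have h1 : (y * y) ^ (m + 1) ∈ H := pow_mem h _
  rwa [← pow_two, ← pow_mul, show 2 * (m + 1) = orderOf y + 1 by omega, pow_succ,
    pow_orderOf_eq_one, one_mul] at h1

/-- `w` outside the 2-group `Q` inverting `y` forces `y` to centralise `Q`. -/
theorem mem_centralizer_of_moved {Q W : Subgroup G} {w y : G} (hQ : IsPGroup 2 Q)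
    (hW : ∀ v ∈ W, v * v = 1) (hQW : Q ≤ normalizer (W : Set G)) (hsp : Sparse W Q) (hw : w ∈ W)
    (hidx : (W ⊓ Q).relIndex W ≤ 2) (hwQ : w ∈ normalizer (Q : Set G))
    (hyQ : y ∈ normalizer (Q : Set G)) (hinv : w * y * w⁻¹ = y⁻¹) (hy : Odd (orderOf y))
    (h3 : ¬ 3 ∣ orderOf y) : y ∈ centralizer (Q : Set G) := by
  classical
  have hWc : ∀ a ∈ W, ∀ b ∈ W, a * b = b * a := fun a ha b hb =>
    congrArg Subtype.val (comm_of_sq (V := ↥W) (fun v => Subtype.ext (hW v v.2)) ⟨a, ha⟩ ⟨b, hb⟩)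
  have hwinv : w⁻¹ = w := inv_eq_of_mul_eq_one_right (hW w hw)
  by_cases hwQ' : w ∈ Q
  · have h1 : w * (y * w⁻¹ * y⁻¹) ∈ Q :=
      mul_mem hwQ' (CfsgLib.LocalEven.conj_mem_of_mem_normalizer hyQ (inv_mem hwQ'))
    rw [show w * (y * w⁻¹ * y⁻¹) = w * y * w⁻¹ * y⁻¹ by group, hinv, ← mul_inv_rev, inv_mem_iff] at h1
    have hyQ' := mem_of_sq_mem hy h1
    obtain ⟨k, hk⟩ := hQ ⟨y, hyQ'⟩
    have hk' : y ^ 2 ^ k = 1 := congrArg Subtype.val hk
    rw [show y = 1 from orderOf_eq_one_iff.1 (Nat.eq_one_of_dvd_coprimes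
      ((Nat.coprime_two_left.2 hy).pow_left k) (orderOf_dvd_of_pow_eq_one hk') dvd_rfl)]
    exact one_mem _
  set R := W ⊓ Q with hR
  have hQR : Q ≤ normalizer (R : Set G) := fun q hq => mem_normalizer_of_cj_le (by
    rintro _ ⟨r, hr, rfl⟩
    exact ⟨CfsgLib.LocalEven.conj_mem_of_mem_normalizer (hQW hq) hr.1,
      Q.mul_mem (Q.mul_mem hq hr.2) (Q.inv_mem hq)⟩)
  have hwR : w ∈ centralizer (R : Set G) := mem_centralizer_iff.2 fun r hr => hWc r hr.1 w hw
  have hcjwR : cj w R = R := cj_eq_self (mem_normalizer_of_cj_le (by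
    rintro _ ⟨r, hr, rfl⟩
    show w * r * w⁻¹ ∈ R
    rw [← mem_centralizer_iff.1 hwR r hr, mul_inv_cancel_right]; exact hr))
  set R1 := cj y R with hR1
  have hR1Q : R1 ≤ Q := (cj_mono _ inf_le_right).trans (cj_eq_self hyQ).le
  have hwy : w * y = y⁻¹ * w := by
    have := congrArg (· * w) hinv
    simpa [mul_assoc] using this
  have hwR1 : cj w R1 = cj y⁻¹ R := by
    rw [hR1, cj_cj, hwy, ← cj_cj, hcjwR]
  have hsym : idx R1 R = idx R R1 := by
    calc idx R1 R = idx (cj w R1) (cj w R) := (idx_cj w _ _).symm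
      _ = idx (cj y⁻¹ R) R := by rw [hwR1, hcjwR]
      _ = idx (cj y (cj y⁻¹ R)) (cj y R) := (idx_cj y _ _).symm
      _ = idx R R1 := by rw [cj_cj, mul_inv_cancel, cj_one]
  have hR1W : R1 ≤ normalizer (W : Set G) := hR1Q.trans hQW
  have hR1sq : ∀ v ∈ R1, v * v = 1 := by
    rintro _ ⟨r, hr, rfl⟩
    rw [← map_mul, hW r hr.1, map_one]
  have hcomm : R ≤ centralizer (R1 : Set G) := by
    by_contra hnc
    set n := idx R R1
    have he := hsp R1 hR1Q hR1W (fun x hx => by rw [hR1sq x hx]; exact one_mem _)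
    have hup : idx R1 W ≤ n * 2 := by
      refine (relIndex_le_mul _ R W inf_le_left).trans ?_
      exact Nat.mul_le_mul hsym.le hidx
    have hlow : n ≤ idx W R1 :=
      Subgroup.relIndex_le_of_le_left (centralizer_le (SetLike.coe_subset_coe.2 inf_le_left))
        (relIndex_ne _ _)
    have hn2 : n ≤ 2 := by
      by_contra h
      have := Nat.mul_le_mul hlow hlow
      nlinarith
    set M := R ⊔ R1 with hM
    have hRM : R ≤ M := le_sup_left
    have hR1M : R1 ≤ M := le_sup_right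
    have hyM' : y⁻¹ ∈ normalizer (M : Set G) := by
      refine mem_normalizer_of_cj_le ?_
      rw [hM, cj, Subgroup.map_sup]
      refine sup_le ?_ ?_
      · show cj y⁻¹ R ≤ _
        rw [← hwR1]
        rintro _ ⟨r, hr, rfl⟩
        show w * r * w⁻¹ ∈ R ⊔ R1
        have h1 : r⁻¹ * (w * r * w⁻¹) ∈ R := by
          refine ⟨?_, Q.mul_mem (Q.inv_mem (hR1Q hr)) (CfsgLib.LocalEven.conj_mem_of_mem_normalizer hwQ (hR1Q hr))⟩
          have h2 : r⁻¹ * w * r ∈ W := by
            simpa using CfsgLib.LocalEven.conj_mem_of_mem_normalizer (hQW (inv_mem (hR1Q hr))) hw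
          have := mul_mem h2 (inv_mem hw)
          simpa [mul_assoc] using this
        have h3 := mul_mem (mem_sup_right (S := R) hr) (mem_sup_left h1)
        rwa [mul_inv_cancel_left] at h3
      · show cj y⁻¹ (cj y R) ≤ _
        rw [cj_cj, inv_mul_cancel, cj_one]
        exact le_sup_left
    have hyM : y ∈ normalizer (M : Set G) := by simpa using inv_mem hyM'
    set Z := M ⊓ centralizer (M : Set G) with hZ
    have hyZ : y ∈ normalizer (Z : Set G) := mem_normalizer_of_cj_le (by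
      rintro _ ⟨z, hz, rfl⟩
      refine ⟨CfsgLib.LocalEven.conj_mem_of_mem_normalizer hyM hz.1, ?_⟩
      have h1 : y * z * y⁻¹ ∈ cj y (centralizer (M : Set G)) := conj_mem_cj hz.2
      rw [← cj_centralizer, cj_eq_self hyM] at h1
      exact h1)
    have hRc : ∀ a ∈ R, ∀ b ∈ R, a * b = b * a := fun a ha b hb => hWc a ha.1 b hb.1
    have hR1c : ∀ a ∈ R1, ∀ b ∈ R1, a * b = b * a := fun a ha b hb =>
      congrArg Subtype.val (comm_of_sq (V := ↥R1) (fun v => Subtype.ext (hR1sq v v.2)) ⟨a, ha⟩ ⟨b, hb⟩)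
    have hcent : ∀ x ∈ M, (∀ r ∈ R, r * x = x * r) → (∀ r ∈ R1, r * x = x * r) → x ∈ Z := by
      intro x hx h1 h2
      refine ⟨hx, mem_centralizer_iff.2 fun m hm => ?_⟩
      have hle : M ≤ centralizer ({x} : Set G) :=
        sup_le (fun r hr => mem_centralizer_singleton_iff.2 (h1 r hr))
          (fun r hr => mem_centralizer_singleton_iff.2 (h2 r hr))
      exact mem_centralizer_singleton_iff.1 (hle hm)
    have hZR : ∀ r ∈ R, r ∈ centralizer (R1 : Set G) → r ∈ Z := fun r hr hc =>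
      hcent r (hRM hr) (fun r' hr' => hRc r' hr' r hr) fun r' hr' => mem_centralizer_iff.1 hc r' hr'
    have hZR1 : ∀ r ∈ R1, r ∈ centralizer (R : Set G) → r ∈ Z := fun r hr hc =>
      hcent r (hR1M hr) (fun r' hr' => mem_centralizer_iff.1 hc r' hr') fun r' hr' => hR1c r' hr' r hr
    obtain ⟨a, ha, ha'⟩ := two_cosets (C := centralizer (R1 : Set G)) (R := R) (hsym.le.trans hn2)
    obtain ⟨b, hb, hb'⟩ := two_cosets (C := centralizer (R : Set G)) (R := R1) hn2
    let T : Subgroup G :=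
      { carrier := {x | ∃ r ∈ R, ∃ r' ∈ R1, x = r * r'}
        one_mem' := ⟨1, one_mem _, 1, one_mem _, (one_mul 1).symm⟩
        mul_mem' := by
          rintro x x' ⟨r, hr, s, hs, rfl⟩ ⟨r', hr', s', hs', rfl⟩
          exact ⟨r * (s * r' * s⁻¹),
            mul_mem hr (CfsgLib.LocalEven.conj_mem_of_mem_normalizer (hQR (hR1Q hs)) hr'), s * s',
            mul_mem hs hs', by group⟩
        inv_mem' := by
          rintro x ⟨r, hr, s, hs, rfl⟩
          refine ⟨s⁻¹ * r⁻¹ * s, ?_, s⁻¹, inv_mem hs, by group⟩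
          simpa using CfsgLib.LocalEven.conj_mem_of_mem_normalizer (hQR (hR1Q (inv_mem hs))) (inv_mem hr) }
    have hMT : M ≤ T := sup_le (fun r hr => ⟨r, hr, 1, one_mem _, (mul_one r).symm⟩)
      (fun r hr => ⟨1, one_mem _, r, hr, (one_mul r).symm⟩)
    have hZM : Z.relIndex M ≤ 4 := by
      let g : Fin 2 × Fin 2 → ↥M ⧸ Z.subgroupOf M := fun p =>
        ((⟨a ^ (p.1 : ℕ) * b ^ (p.2 : ℕ), mul_mem (pow_mem (hRM ha) _) (pow_mem (hR1M hb) _)⟩ : ↥M) :
          ↥M ⧸ Z.subgroupOf M)
      have hs : Function.Surjective g := by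
        intro q
        induction q using Quotient.inductionOn' with
        | h x =>
          obtain ⟨r, hr, r', hr', hx⟩ := hMT x.2
          obtain ⟨i, hi⟩ : ∃ i : Fin 2, (a ^ (i : ℕ))⁻¹ * r ∈ centralizer (R1 : Set G) := by
            rcases ha' r hr with h | h
            · exact ⟨0, by simpa using h⟩
            · exact ⟨1, by simpa using h⟩
          obtain ⟨j, hj⟩ : ∃ j : Fin 2, (b ^ (j : ℕ))⁻¹ * r' ∈ centralizer (R : Set G) := by
            rcases hb' r' hr' with h | h
            · exact ⟨0, by simpa using h⟩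
            · exact ⟨1, by simpa using h⟩
          have hzr := hZR _ (mul_mem (inv_mem (pow_mem ha _)) hr) hi
          have hzr' := hZR1 _ (mul_mem (inv_mem (pow_mem hb _)) hr') hj
          refine ⟨(i, j), QuotientGroup.eq.2 ?_⟩
          show (a ^ (i : ℕ) * b ^ (j : ℕ))⁻¹ * (x : G) ∈ Z
          have hcz : (b ^ (j : ℕ))⁻¹ * ((a ^ (i : ℕ))⁻¹ * r) = (a ^ (i : ℕ))⁻¹ * r * (b ^ (j : ℕ))⁻¹ :=
            mem_centralizer_iff.1 hzr.2 _ (inv_mem (pow_mem (hR1M hb) _))
          rw [hx, show (a ^ (i : ℕ) * b ^ (j : ℕ))⁻¹ * (r * r') =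
            (b ^ (j : ℕ))⁻¹ * ((a ^ (i : ℕ))⁻¹ * r) * r' by group, hcz,
            mul_assoc]
          exact mul_mem hzr hzr'
      have := Nat.card_le_card_of_surjective g hs
      simp only [Nat.card_eq_fintype_card (α := Fin 2 × Fin 2), Fintype.card_prod, Fintype.card_fin] at this
      exact this
    apply hnc
    intro r hr
    refine mem_centralizer_iff.2 ?_
    rintro _ ⟨r', hr', rfl⟩
    have hz := conj_mem_of_index_le_four hyM hyZ hZM hy h3 r' (hRM hr')
    have h1 : r * (r'⁻¹ * (y * r' * y⁻¹)) = r'⁻¹ * (y * r' * y⁻¹) * r :=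
      mem_centralizer_iff.1 hz.2 r (hRM hr)
    have h2 : Commute r (y * r' * y⁻¹) := by
      have : Commute r (r' * (r'⁻¹ * (y * r' * y⁻¹))) :=
        (show Commute r r' from hRc r hr r' hr').mul_right h1
      rwa [mul_inv_cancel_left] at this
    exact h2.symm.eq
  -- `R ⊔ R1` is elementary and centralises `W`
  have hR1c : ∀ a ∈ R1, ∀ b ∈ R1, a * b = b * a := fun a ha b hb =>
    congrArg Subtype.val (comm_of_sq (V := ↥R1) (fun v => Subtype.ext (hR1sq v v.2)) ⟨a, ha⟩ ⟨b, hb⟩)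
  set V := R ⊔ R1 with hV
  have hRcV : R ≤ centralizer (V : Set G) := fun r hr => mem_centralizer_iff.2 fun v hv => by
    have hle : V ≤ centralizer ({r} : Set G) :=
      sup_le (fun r' hr' => mem_centralizer_singleton_iff.2 (hWc r' hr'.1 r hr.1))
        (fun r' hr' => mem_centralizer_singleton_iff.2 (mem_centralizer_iff.1 (hcomm hr) r' hr'))
    exact mem_centralizer_singleton_iff.1 (hle hv)
  have hVW : V ≤ centralizer (W : Set G) := by
    have hsq : ∀ v ∈ V, v * v = 1 := by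
      have hVT : ∀ v ∈ V, v * v = 1 ∧ ∀ u ∈ V, u * v = v * u := by
        have hVc : V ≤ centralizer (V : Set G) := sup_le hRcV fun r hr => mem_centralizer_iff.2 fun v hv => by
          have hle : V ≤ centralizer ({r} : Set G) :=
            sup_le (fun r' hr' => mem_centralizer_singleton_iff.2
                ((mem_centralizer_iff.1 (hcomm hr') r hr).symm))
              (fun r' hr' => mem_centralizer_singleton_iff.2 (hR1c r' hr' r hr))
          exact mem_centralizer_singleton_iff.1 (hle hv)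
        let S : Subgroup G :=
          { carrier := {v | v ∈ V ∧ v * v = 1}
            one_mem' := ⟨one_mem _, one_mul 1⟩
            mul_mem' := fun {u v} hu hv => ⟨mul_mem hu.1 hv.1, by
              rw [mul_assoc, ← mul_assoc v, ← mem_centralizer_iff.1 (hVc hv.1) u hu.1, mul_assoc u v v,
                hv.2, mul_one, hu.2]⟩
            inv_mem' := fun {u} hu => ⟨inv_mem hu.1, by rw [← mul_inv_rev, hu.2, inv_one]⟩ }
        have hS : V ≤ S := sup_le (fun r hr => ⟨mem_sup_left hr, hW r hr.1⟩)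
          (fun r hr => ⟨mem_sup_right hr, hR1sq r hr⟩)
        exact fun v hv => ⟨(hS hv).2, fun u hu => mem_centralizer_iff.1 (hVc hv) u hu⟩
      exact fun v hv => (hVT v hv).1
    have hVQ : V ≤ Q := sup_le inf_le_right hR1Q
    have h1 := hsp V hVQ (hVQ.trans hQW) (fun x hx => by rw [hsq x hx]; exact one_mem _)
    have h2 : idx V W ≤ 2 :=
      (Subgroup.relIndex_le_of_le_left hRcV (relIndex_ne _ _)).trans hidx
    refine idx_eq_one_iff.1 ?_
    have h3 := idx_pos W V
    nlinarith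
  have hyR : y ∈ normalizer (R : Set G) := by
    refine mem_of_sq_mem hy ?_
    refine mem_normalizer_of_cj_le (le_of_eq ?_)
    have hw1 : cj w R1 = R1 := cj_eq_self (mem_normalizer_of_cj_le (by
      rintro _ ⟨r, hr, rfl⟩
      show w * r * w⁻¹ ∈ R1
      rw [mem_centralizer_iff.1 (hVW (mem_sup_right hr)) w hw, mul_inv_cancel_right]; exact hr))
    rw [← cj_cj, ← hR1, ← hw1, hwR1, cj_cj, mul_inv_cancel, cj_one]
  have hyw : y * w * y⁻¹ * w⁻¹ = y * y := by
    rw [show y * w * y⁻¹ * w⁻¹ = y * (w * y * w⁻¹)⁻¹ by group, hinv, inv_inv]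
  have hyC : ∀ (T : Subgroup G), y ∈ normalizer (T : Set G) → w ∈ centralizer (T : Set G) →
      y ∈ centralizer (T : Set G) := by
    intro T hyT hwT
    refine mem_of_sq_mem hy ?_
    rw [← hyw]
    refine mul_mem ?_ (inv_mem hwT)
    have h1 : y * w * y⁻¹ ∈ cj y (centralizer (T : Set G)) := conj_mem_cj hwT
    rwa [← cj_centralizer, cj_eq_self hyT] at h1
  have hyRc := hyC R hyR hwR
  set Y := zpowers y with hY
  set T := ⁅Q, Y⁆ with hT
  have hYQ : Y ≤ normalizer (Q : Set G) := zpowers_le.2 hyQ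
  have hTQ : T ≤ Q := CfsgLib.Solvable.commutator_le_of_le_normalizer hYQ
  have hTR : T ≤ centralizer (R : Set G) := by
    rw [hT, Subgroup.commutator_le]
    intro q hq z hz
    refine mem_centralizer_iff.2 fun r hr => ?_
    have hzc : z ∈ centralizer (R : Set G) := zpowers_le.2 hyRc hz
    have hr' : q⁻¹ * r * q ∈ R := by
      simpa using CfsgLib.LocalEven.conj_mem_of_mem_normalizer (hQR (inv_mem hq)) hr
    have e1 := mem_centralizer_iff.1 hzc r hr
    have e2 := mem_centralizer_iff.1 hzc _ hr'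
    rw [commutatorElement_def]
    calc r * (q * z * q⁻¹ * z⁻¹) = q * ((q⁻¹ * r * q) * z) * q⁻¹ * z⁻¹ := by group
      _ = q * z * q⁻¹ * (r * z⁻¹) := by rw [e2]; group
      _ = q * z * q⁻¹ * (z⁻¹ * r) := by rw [mem_centralizer_iff.1 (inv_mem hzc) r hr]
      _ = _ := by group
  have hTW : T ≤ centralizer (W : Set G) := by
    have hsqT : ∀ t ∈ T, t * t ∈ centralizer (W : Set G) := by
      intro t ht
      obtain ⟨r₀, hr₀, hr₀'⟩ := two_cosets hidx
      have hc : ∀ u ∈ W, (t * t) * u * (t * t)⁻¹ = u := by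
        intro u hu
        have htR : ∀ r ∈ R, t * r * t⁻¹ = r := fun r hr => by
          rw [← mem_centralizer_iff.1 (hTR ht) r hr, mul_inv_cancel_right]
        set v := u⁻¹ * (t * u * t⁻¹) with hv
        have hvR : v ∈ R := by
          refine ⟨W.mul_mem (W.inv_mem hu) (CfsgLib.LocalEven.conj_mem_of_mem_normalizer (hQW (hTQ ht)) hu), ?_⟩
          by_cases huQ : u ∈ Q
          · exact Q.mul_mem (Q.inv_mem huQ) (Q.mul_mem (Q.mul_mem (hTQ ht) huQ) (Q.inv_mem (hTQ ht)))
          · have huw : w⁻¹ * u ∈ R := by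
              rcases hr₀' u hu with h | h
              · exact absurd h.2 huQ
              · rcases hr₀' w hw with h' | h'
                · exact absurd h'.2 hwQ'
                · have := mul_mem (inv_mem h') h
                  simpa [mul_assoc] using this
            obtain ⟨r, hr, rfl⟩ : ∃ r ∈ R, u = w * r := ⟨_, huw, (mul_inv_cancel_left w u).symm⟩
            have h4 : (w * r)⁻¹ * t * (w * r) ∈ Q := by
              have h5 := CfsgLib.LocalEven.conj_mem_of_mem_normalizer (inv_mem hwQ) (hTQ ht)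
              have h6 := Q.mul_mem (Q.mul_mem (Q.inv_mem hr.2) h5) hr.2
              simpa [mul_assoc] using h6
            have := Q.mul_mem h4 (Q.inv_mem (hTQ ht))
            simpa [hv, mul_assoc] using this
        have h7 : t * u * t⁻¹ = u * v := by rw [hv, mul_inv_cancel_left]
        calc t * t * u * (t * t)⁻¹ = t * (t * u * t⁻¹) * t⁻¹ := by group
          _ = t * (u * v) * t⁻¹ := by rw [h7]
          _ = (t * u * t⁻¹) * (t * v * t⁻¹) := by group
          _ = u * (v * v) := by rw [htR v hvR, h7, mul_assoc]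
          _ = u := by rw [hW v hvR.1, mul_one]
      exact mem_centralizer_iff.2 fun u hu => (mul_inv_eq_iff_eq_mul.1 (hc u hu)).symm
    have h1 := hsp T hTQ (hTQ.trans hQW) hsqT
    have h2 : idx T W ≤ 2 := by
      refine (Subgroup.relIndex_le_of_le_left ?_ (relIndex_ne _ _)).trans hidx
      exact le_centralizer_iff.1 hTR
    refine idx_eq_one_iff.1 ?_
    have h3 := idx_pos W T
    nlinarith
  have hyT : y ∈ normalizer (T : Set G) :=
    CfsgLib.Solvable.le_normalizer_commutator_right hYQ (mem_zpowers y)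
  have hyTc := hyC T hyT (mem_centralizer_iff.2 fun t ht => (mem_centralizer_iff.1 (hTW ht) w hw).symm)
  have hcop : (Nat.card ↥Y).Coprime (Nat.card ↥Q) := by
    obtain ⟨k, hk⟩ := IsPGroup.iff_card.1 hQ
    rw [hk, hY, Nat.card_zpowers]
    exact (Nat.coprime_two_right.2 hy).pow_right k
  have hbot : ⁅T, Y⁆ = ⊥ := Subgroup.commutator_eq_bot_iff_le_centralizer.2 (fun t ht =>
    mem_centralizer_iff.2 fun z hz => by
      obtain ⟨i, rfl⟩ := mem_zpowers_iff.1 hz
      exact ((show Commute t y from mem_centralizer_iff.1 hyTc t ht).zpow_right i).eq.symm)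
  have hYsol : Group.IsSolvable ↥Y := by
    refine Group.isSolvable_of_comm ?_
    rintro ⟨a, ha⟩ ⟨b, hb⟩
    obtain ⟨i, rfl⟩ := mem_zpowers_iff.1 ha
    obtain ⟨j, rfl⟩ := mem_zpowers_iff.1 hb
    exact Subtype.ext ((Commute.refl y).zpow_zpow i j).eq
  have hT1 : ⁅Q, Y⁆ = ⊥ := by
    rw [← CfsgLib.Solvable.commutator_commutator_self hYQ hcop (Or.inl hYsol)]
    exact hbot
  have h9 := Subgroup.commutator_eq_bot_iff_le_centralizer.1 hT1
  exact mem_centralizer_iff.2 fun q hq => (mem_centralizer_iff.1 (h9 hq) y (mem_zpowers y)).symm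

end CfsgLib.SFreeLocals
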