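import Cfsg.Agent.Lib.SFreeLocals.Fixed
import Cfsg.Agent.Lib.Transfer.Factorizable
import Cfsg.Agent.Lib.Cores.Basic

/-!
The Thompson subgroup and normal closures of `Ω₁(Z(S))` for sparse actions.
-/

set_option autoImplicit false

namespace CfsgLib.SFreeLocals

open Subgroup Cfsg

universe u

variable {G : Type u} [Group G] [Finite G]

/-- The Thompson subgroup for elementary abelian 2-subgroups. -/
abbrev jTwo (S : Subgroup G) : Subgroup G := thompsonSubgroupOf 2 S

/-- An elementary abelian 2-subgroup of largest order in `S`. -/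
def IsMaxEl (S A : Subgroup G) : Prop :=
  A ≤ S ∧ (∀ a ∈ A, a * a = 1) ∧ ∀ B : Subgroup G, B ≤ S → (∀ b ∈ B, b * b = 1) → Nat.card B ≤ Nat.card A

theorem comm_of_mem_sq {B : Subgroup G} (hB : ∀ b ∈ B, b * b = 1) :
    ∀ a ∈ B, ∀ b ∈ B, a * b = b * a := fun a ha b hb =>
  congrArg Subtype.val (comm_of_sq (V := ↥B) (fun v => Subtype.ext (hB v v.2)) ⟨a, ha⟩ ⟨b, hb⟩)

omit [Finite G] in
theorem elemAb_of_sq {B : Subgroup G} [Finite G] (hB : ∀ b ∈ B, b * b = 1) :
    IsElementaryAbelian 2 B :=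
  ⟨⟨⟨fun a b => Subtype.ext (comm_of_mem_sq hB a a.2 b b.2)⟩⟩,
    fun b hb => by rw [pow_two]; exact hB b hb⟩

theorem exists_isMaxEl (S : Subgroup G) : ∃ A, IsMaxEl S A := by
  obtain ⟨A, ⟨hAS, hA⟩, hmax⟩ := Set.Finite.exists_maximalFor (fun A : Subgroup G => Nat.card A)
    {A | A ≤ S ∧ ∀ a ∈ A, a * a = 1} (Set.toFinite _)
    ⟨⊥, bot_le, fun a ha => by rw [Subgroup.mem_bot.1 ha, one_mul]⟩
  refine ⟨A, hAS, hA, fun B hBS hB => ?_⟩
  by_contra h
  exact h (hmax ⟨hBS, hB⟩ (le_of_not_ge h))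

theorem isMaxEl_le_jTwo {S A : Subgroup G} (hA : IsMaxEl S A) : A ≤ jTwo S := by
  intro x hx
  have hmem : A.subgroupOf S ∈ maxElementaryAbelianSubgroups 2 ↥S := by
    refine ⟨elemAb_of_sq fun a ha => Subtype.ext (hA.2.1 _ ha), fun B hB => ?_⟩
    rw [Nat.card_congr (subgroupOfEquivOfLe hA.1).toEquiv,
      ← Subgroup.card_map_of_injective (K := B) S.subtype_injective]
    refine hA.2.2 _ (Subgroup.map_subtype_le _) ?_
    rintro _ ⟨b, hb, rfl⟩
    rw [← map_mul, ← pow_two, hB.2 b hb, map_one]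
  exact ⟨⟨x, hA.1 hx⟩, (le_sSup hmem : A.subgroupOf S ≤ thompsonSubgroup 2 ↥S) hx, rfl⟩

theorem jTwo_le_of_forall {S X : Subgroup G} (h : ∀ A, IsMaxEl S A → A ≤ X) : jTwo S ≤ X := by
  rw [jTwo, thompsonSubgroupOf, Subgroup.map_le_iff_le_comap, thompsonSubgroup]
  refine sSup_le fun A hA => Subgroup.map_le_iff_le_comap.1 (h _ ⟨Subgroup.map_subtype_le _, ?_, ?_⟩)
  · rintro _ ⟨b, hb, rfl⟩
    rw [← map_mul, ← pow_two, hA.1.2 b hb, map_one]
  · intro B hBS hB
    rw [Subgroup.card_map_of_injective S.subtype_injective,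
      ← Nat.card_congr (subgroupOfEquivOfLe hBS).toEquiv]
    exact hA.2 _ (elemAb_of_sq fun a ha => Subtype.ext (hB _ ha))

omit [Finite G] in
theorem jTwo_le (S : Subgroup G) : jTwo S ≤ S := Subgroup.map_subtype_le _

theorem jTwo_cj (g : G) (S : Subgroup G) : cj g (jTwo S) = jTwo (cj g S) :=
  CfsgLib.Transfer.thompsonSubgroupOf_map (MulAut.conj g).toMonoidHom
    ((MulAut.conj g).injective.injOn)

theorem normalizer_le_normalizer_jTwo (S : Subgroup G) :
    normalizer (S : Set G) ≤ normalizer (jTwo S : Set G) := fun g hg => by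
  refine mem_normalizer_of_cj_le ?_
  rw [jTwo_cj, cj_eq_self hg]

theorem jTwo_eq_of_le {S T : Subgroup G} (hTS : T ≤ S) (hJ : jTwo S ≤ T) : jTwo T = jTwo S :=
  CfsgLib.Transfer.thompsonSubgroupOf_eq_of_le hTS hJ

/-- The involutions of the centre of `S`, with the identity. -/
def zTwo (S : Subgroup G) : Subgroup G where
  carrier := {x | x ∈ S ∧ x * x = 1 ∧ ∀ s ∈ S, s * x = x * s}
  one_mem' := ⟨one_mem _, one_mul 1, fun s _ => by simp⟩
  mul_mem' := fun {a b} ha hb => ⟨mul_mem ha.1 hb.1, by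
      rw [mul_assoc, ← mul_assoc b, hb.2.2 a ha.1 |>.symm, mul_assoc a b b, hb.2.1, mul_one, ha.2.1],
    fun s hs => ((show Commute s a from ha.2.2 s hs).mul_right (hb.2.2 s hs)).eq⟩
  inv_mem' := fun {a} ha => ⟨inv_mem ha.1, by rw [← mul_inv_rev, ha.2.1, inv_one],
    fun s hs => ((show Commute s a from ha.2.2 s hs).inv_right).eq⟩

theorem zTwo_ne_bot {S : Subgroup G} (hS : IsPGroup 2 S) (hne : S ≠ ⊥) : zTwo S ≠ ⊥ := by
  have : Fact (Nat.Prime 2) := ⟨Nat.prime_two⟩
  have : Nontrivial ↥S := (Subgroup.nontrivial_iff_ne_bot S).2 hne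
  have hc : Nontrivial ↥(Subgroup.center ↥S) := hS.center_nontrivial
  have hcp : IsPGroup 2 ↥(Subgroup.center ↥S) := hS.to_subgroup _
  obtain ⟨k, hk, hcard⟩ := hcp.nontrivial_iff_card.1 hc
  obtain ⟨z, hz⟩ := exists_prime_orderOf_dvd_card' 2
    (hcard ▸ dvd_pow_self 2 hk.ne' : 2 ∣ Nat.card ↥(Subgroup.center ↥S))
  intro h
  have hmem : ((z : ↥S) : G) ∈ zTwo S := by
    refine ⟨(z : ↥S).2, ?_, fun s hs => congrArg Subtype.val (Subgroup.mem_center_iff.1 z.2 ⟨s, hs⟩)⟩
    have h2 : z * z = 1 := by rw [← pow_two, ← hz]; exact pow_orderOf_eq_one z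
    exact congrArg (fun t : ↥(Subgroup.center ↥S) => ((t : ↥S) : G)) h2
  rw [h, Subgroup.mem_bot] at hmem
  have hz1 : z = 1 := Subtype.ext (Subtype.ext hmem)
  rw [hz1, orderOf_one] at hz
  omega

theorem zTwo_cj_le (g : G) (S : Subgroup G) : cj g (zTwo S) ≤ zTwo (cj g S) := by
  rintro _ ⟨x, ⟨h1, h2, h3⟩, rfl⟩
  refine ⟨⟨x, h1, rfl⟩, by rw [← map_mul, h2, map_one], ?_⟩
  rintro _ ⟨s, hs, rfl⟩
  rw [← map_mul, ← map_mul, h3 s hs]

theorem normalizer_le_normalizer_zTwo (S : Subgroup G) :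
    normalizer (S : Set G) ≤ normalizer (zTwo S : Set G) := fun g hg =>
  mem_normalizer_of_cj_le ((zTwo_cj_le g S).trans (by rw [cj_eq_self hg]))

theorem zTwo_le_jTwo {S : Subgroup G} : zTwo S ≤ jTwo S := by
  intro z hz
  obtain ⟨A, hA⟩ := exists_isMaxEl S
  have hsq : ∀ b ∈ A ⊔ zpowers z, b * b = 1 := by
    let T : Subgroup G :=
      { carrier := {b | b ∈ A ∨ z * b ∈ A}
        one_mem' := Or.inl (one_mem _)
        mul_mem' := by
          intro a b ha hb
          rcases ha with ha | ha <;> rcases hb with hb | hb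
          · exact Or.inl (mul_mem ha hb)
          · refine Or.inr ?_
            rw [← mul_assoc, ← hz.2.2 a (hA.1 ha), mul_assoc]
            exact mul_mem ha hb
          · refine Or.inr ?_
            rw [← mul_assoc]
            exact mul_mem ha hb
          · refine Or.inl ?_
            have h := mul_mem ha hb
            have haS : a ∈ S := by simpa using mul_mem (inv_mem hz.1) (hA.1 ha)
            have : z * a * (z * b) = a * b := by
              rw [← hz.2.2 a haS, mul_assoc, ← mul_assoc z z, hz.2.1, one_mul]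
            rwa [this] at h
        inv_mem' := by
          intro a ha
          rcases ha with ha | ha
          · exact Or.inl (inv_mem ha)
          · refine Or.inr ?_
            have haS : a ∈ S := by simpa using mul_mem (inv_mem hz.1) (hA.1 ha)
            have h := inv_mem ha
            rwa [mul_inv_rev, inv_eq_of_mul_eq_one_right hz.2.1,
              hz.2.2 a⁻¹ (inv_mem haS)] at h }
    have hT : A ⊔ zpowers z ≤ T := sup_le (fun b hb => Or.inl hb)
      (zpowers_le.2 (Or.inr (by rw [hz.2.1]; exact one_mem _)))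
    intro b hb
    have hbS : b ∈ S := sup_le hA.1 (zpowers_le.2 hz.1) hb
    rcases hT hb with h | h
    · exact hA.2.1 b h
    · have := hA.2.1 _ h
      rwa [← hz.2.2 b hbS, mul_assoc, ← mul_assoc z b z, ← hz.2.2 b hbS, mul_assoc b z z, hz.2.1,
        mul_one] at this
  have heq : A = A ⊔ zpowers z :=
    Subgroup.eq_of_le_of_card_ge le_sup_left
      (hA.2.2 _ (sup_le hA.1 (zpowers_le.2 hz.1)) hsq)
  exact isMaxEl_le_jTwo hA (heq.ge (mem_sup_right (mem_zpowers z)))

/-- The subgroup generated by the `N`-conjugates of `Z`. -/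
def conjSup (N Z : Subgroup G) : Subgroup G := ⨆ g : ↥N, cj (g : G) Z

theorem le_conjSup (N Z : Subgroup G) : Z ≤ conjSup N Z :=
  le_iSup_of_le (1 : ↥N) (by rw [OneMemClass.coe_one, cj_one])

theorem le_normalizer_conjSup (N Z : Subgroup G) : N ≤ normalizer (conjSup N Z : Set G) :=
  fun g hg => mem_normalizer_of_cj_le (by
    rw [conjSup, cj, Subgroup.map_iSup]
    refine iSup_le fun x => ?_
    show cj g (cj (x : G) Z) ≤ _
    rw [cj_cj]
    exact le_iSup_of_le (⟨g, hg⟩ * x : ↥N) le_rfl)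

theorem conjSup_le {N Z X : Subgroup G} (hZ : Z ≤ X) (hN : N ≤ normalizer (X : Set G)) :
    conjSup N Z ≤ X :=
  iSup_le fun g => (cj_mono _ hZ).trans (cj_eq_self (hN g.2)).le

/-- The involutions of `C_X(X)`. -/
theorem exists_elementary_center (X : Subgroup G) :
    ∃ E : Subgroup G, (∀ x, x ∈ E ↔ x ∈ X ∧ x * x = 1 ∧ ∀ s ∈ X, s * x = x * s) ∧
      normalizer (X : Set G) ≤ normalizer (E : Set G) :=
  ⟨zTwo X, fun _ => Iff.rfl, normalizer_le_normalizer_zTwo X⟩

/-- The closure of `Ω₁(Z(S))` has a sparse action in a solvable group without a section `S₄`. -/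
theorem sparse_conjSup {N S : Subgroup G} [Group.IsSolvable ↥N]
    (hS4 : ¬ Involves (Equiv.Perm (Fin 4)) ↥N) (hS : IsPGroup 2 S) (hSN : S ≤ N)
    (hodd : Odd (S.relIndex N)) (hsq : ∀ v ∈ conjSup N (zTwo S), v * v = 1) :
    Sparse (conjSup N (zTwo S)) N := by
  have : Fact (Nat.Prime 2) := ⟨Nat.prime_two⟩
  set W := conjSup N (zTwo S) with hW
  have hWN : W ≤ N := conjSup_le (fun x hx => hSN hx.1) Subgroup.le_normalizer
  have hNW : N ≤ normalizer (W : Set G) := le_normalizer_conjSup N _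
  refine sparse_of_solvable hsq hWN hNW hS4 ?_
  set f := (Subgroup.normalizerMonoidHom W).comp (inclusion hNW) with hf
  set O := (pCore 2 ↥f.range).comap f.rangeRestrict with hO
  have : (pCore 2 ↥f.range).Normal := by
    have := CfsgLib.Cores.pCore_characteristic (G := ↥f.range) 2
    exact Subgroup.normal_of_characteristic _
  have hOn : O.Normal := by rw [hO]; infer_instance
  let S' : Sylow 2 ↥N := (hS.of_equiv (subgroupOfEquivOfLe hSN).symm).toSylow (p := 2) (by
    intro h2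
    exact Nat.not_even_iff_odd.2 hodd (even_iff_two_dvd.2 h2))
  obtain ⟨T, hT⟩ := CfsgLib.Transfer.exists_sylow_map_eq_inf O S'
  have hsurj : Function.Surjective (f.rangeRestrict.subgroupComap (pCore 2 ↥f.range)) :=
    MonoidHom.subgroupComap_surjective_of_surjective _ _ f.rangeRestrict_surjective
  have hzero : ∀ o ∈ O, ∀ v ∈ zTwo S, (o : G) * v * (o : G)⁻¹ = v := by
    intro o ho v hv
    have htop : ((T.mapSurjective hsurj : Sylow 2 ↥(pCore 2 ↥f.range)) :
        Subgroup ↥(pCore 2 ↥f.range)) = ⊤ := by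
      have hp := CfsgLib.Cores.isPGroup_pCore (G := ↥f.range) 2
      exact ((T.mapSurjective hsurj).3 (hp.of_equiv Subgroup.topEquiv.symm) le_top).symm
    have hmem : f.rangeRestrict.subgroupComap (pCore 2 ↥f.range) ⟨o, ho⟩ ∈
        ((T.mapSurjective hsurj : Sylow 2 ↥(pCore 2 ↥f.range)) : Subgroup ↥(pCore 2 ↥f.range)) := by
      rw [htop]; exact mem_top _
    rw [Sylow.coe_mapSurjective] at hmem
    obtain ⟨t, ht, hte⟩ := hmem
    have htS : ((t : ↥N) : G) ∈ S := by
      have h : (t : ↥N) ∈ (T : Subgroup ↥O).map O.subtype := ⟨t, ht, rfl⟩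
      rw [hT] at h
      exact h.1
    have heq : f (t : ↥N) = f o := congrArg Subtype.val (congrArg Subtype.val hte :)
    have h1 := congrArg (fun φ : MulAut ↥W => ((φ ⟨v, le_conjSup _ _ hv⟩ : ↥W) : G)) heq
    have h2 : ((t : ↥N) : G) * v * ((t : ↥N) : G)⁻¹ = v := conj_eq_iff_comm.2 (hv.2.2 _ htS)
    exact h1.symm.trans h2
  rw [eq_bot_iff]
  intro x hx
  obtain ⟨o, rfl⟩ := f.rangeRestrict_surjective x
  rw [Subgroup.mem_bot]
  apply Subtype.ext
  show f o = 1
  have hfix : W ≤ centralizer ({(o : G)} : Set G) := iSup_le fun g => by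
    rintro _ ⟨v, hv, rfl⟩
    refine mem_centralizer_singleton_iff.2 ?_
    show (g : G) * v * (g : G)⁻¹ * o = o * ((g : G) * v * (g : G)⁻¹)
    have h := hzero (g⁻¹ * o * g) (by simpa using hOn.conj_mem o hx g⁻¹) v hv
    have h' : (g : G)⁻¹ * o * g * v * ((g : G)⁻¹ * o * g)⁻¹ = v := h
    calc (g : G) * v * (g : G)⁻¹ * o
        = g * ((g : G)⁻¹ * o * g * v * ((g : G)⁻¹ * o * g)⁻¹) * (g : G)⁻¹ * o := by rw [h']
      _ = _ := by group
  ext v
  show (o : G) * (v : G) * (o : G)⁻¹ = v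
  exact conj_eq_iff_comm.2 (mem_centralizer_singleton_iff.1 (hfix v.2)).symm

theorem card_eq_mul_relIndex {H K : Subgroup G} (h : H ≤ K) :
    Nat.card K = Nat.card H * H.relIndex K := by
  rw [Subgroup.relIndex, ← Nat.card_congr (subgroupOfEquivOfLe h).toEquiv, Subgroup.card_mul_index]

/-- The offender inequality of a largest elementary abelian subgroup. -/
theorem idx_le_of_isMaxEl {S A V : Subgroup G} (hA : IsMaxEl S A) (hVS : V ≤ S)
    (hV : ∀ v ∈ V, v * v = 1) : idx A V ≤ idx V A := by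
  set A' := A ⊓ centralizer (V : Set G) with hA'
  set B := V ⊔ A' with hB
  have hAc := comm_of_mem_sq hA.2.1
  have hVc := comm_of_mem_sq hV
  have hBsq : ∀ b ∈ B, b * b = 1 := by
    have hBc : B ≤ centralizer (B : Set G) := by
      refine sup_le (fun v hv => mem_centralizer_iff.2 fun b hb => ?_)
        (fun x hx => mem_centralizer_iff.2 fun b hb => ?_)
      · have hle : B ≤ centralizer ({v} : Set G) :=
          sup_le (fun u hu => mem_centralizer_singleton_iff.2 (hVc u hu v hv))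
            (fun u hu => mem_centralizer_singleton_iff.2 (mem_centralizer_iff.1 hu.2 v hv).symm)
        exact mem_centralizer_singleton_iff.1 (hle hb)
      · have hle : B ≤ centralizer ({x} : Set G) :=
          sup_le (fun u hu => mem_centralizer_singleton_iff.2 (mem_centralizer_iff.1 hx.2 u hu))
            (fun u hu => mem_centralizer_singleton_iff.2 (hAc u hu.1 x hx.1))
        exact mem_centralizer_singleton_iff.1 (hle hb)
    let T : Subgroup G :=
      { carrier := {v | v ∈ B ∧ v * v = 1}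
        one_mem' := ⟨one_mem _, one_mul 1⟩
        mul_mem' := fun {u v} hu hv => ⟨mul_mem hu.1 hv.1, by
          rw [mul_assoc, ← mul_assoc v, ← mem_centralizer_iff.1 (hBc hv.1) u hu.1, mul_assoc u v v,
            hv.2, mul_one, hu.2]⟩
        inv_mem' := fun {u} hu => ⟨inv_mem hu.1, by rw [← mul_inv_rev, hu.2, inv_one]⟩ }
    have hT : B ≤ T := sup_le (fun v hv => ⟨mem_sup_left hv, hV v hv⟩)
      (fun v hv => ⟨mem_sup_right hv, hA.2.1 v hv.1⟩)
    exact fun b hb => (hT hb).2
  have h1 := hA.2.2 B (sup_le hVS (inf_le_left.trans hA.1)) hBsq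
  have hcardB : Nat.card B = Nat.card V * V.relIndex B := (card_eq_mul_relIndex le_sup_left)
  have hA'card : Nat.card A' = Nat.card ↥(V ⊓ A') * V.relIndex A' := by
    rw [← Subgroup.inf_relIndex_right V A']
    exact card_eq_mul_relIndex inf_le_right
  have hle1 : V.relIndex A' ≤ V.relIndex B :=
    Subgroup.relIndex_le_of_le_right le_sup_right (relIndex_ne _ _)
  have hAcard : Nat.card A = Nat.card A' * idx V A := by
    rw [show idx V A = A'.relIndex A by rw [hA', inf_comm, Subgroup.inf_relIndex_right]; rfl]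
    exact card_eq_mul_relIndex inf_le_left
  set D := centralizer (A : Set G) ⊓ V with hD
  have hVcard : Nat.card V = Nat.card D * idx A V := by
    rw [show idx A V = D.relIndex V by rw [hD, Subgroup.inf_relIndex_right]; rfl]
    exact card_eq_mul_relIndex inf_le_right
  have hle2 : Nat.card ↥(V ⊓ A') ≤ Nat.card D := Subgroup.card_le_of_le
    (le_inf (fun x hx => mem_centralizer_iff.2 fun a ha => hAc a ha x hx.2.1) inf_le_left)
  have hpos : 0 < Nat.card D * V.relIndex A' :=
    Nat.mul_pos Nat.card_pos (Nat.pos_of_ne_zero (relIndex_ne _ _))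
  refine Nat.le_of_mul_le_mul_left ?_ hpos
  calc Nat.card D * V.relIndex A' * idx A V = Nat.card V * V.relIndex A' := by rw [hVcard]; ring
    _ ≤ Nat.card V * V.relIndex B := Nat.mul_le_mul_left _ hle1
    _ ≤ Nat.card A := hcardB ▸ h1
    _ = Nat.card ↥(V ⊓ A') * V.relIndex A' * idx V A := by rw [hAcard, hA'card]
    _ ≤ Nat.card D * V.relIndex A' * idx V A :=
      Nat.mul_le_mul_right _ (Nat.mul_le_mul_right _ hle2)

end CfsgLib.SFreeLocals
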