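import Cfsg.Agent.Lib.SFreeLocals.Factor
import Cfsg.Agent.Lib.LocalEven.CoreOf
import Cfsg.Prelude.Def_CaseTheorems

/-!
Uniqueness of the maximal 2-local subgroup over a Sylow 2-subgroup when all 2-local subgroups are
solvable, of characteristic two and without a section `S₄`.
-/

set_option autoImplicit false

namespace CfsgLib.SFreeLocals

open Subgroup Cfsg

universe u

variable {G : Type u} [Group G] [Finite G]

/-- Every 2-local subgroup is solvable, of characteristic two and without a section `S₄`. -/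
def TameLocals (G : Type u) [Group G] : Prop :=
  ∀ M : Subgroup G, IsTwoLocal M →
    Group.IsSolvable M ∧ IsOfCharacteristicTwo ↥M ∧ ¬ Involves (Equiv.Perm (Fin 4)) ↥M

theorem inf_centralizer_pCoreOf_le {L : Subgroup G} (hc : IsOfCharacteristicTwo ↥L) :
    L ⊓ centralizer (pCoreOf 2 L : Set G) ≤ pCoreOf 2 L := fun x hx =>
  ⟨⟨x, hx.1⟩, hc (mem_centralizer_iff.2 fun y hy =>
    Subtype.ext (mem_centralizer_iff.1 hx.2 y ⟨y, hy, rfl⟩)), rfl⟩

/-- The Thompson factorisation in a tame 2-local subgroup. -/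
theorem le_of_normalizers_le {L U M : Subgroup G} (hsol : Group.IsSolvable ↥L)
    (hc : IsOfCharacteristicTwo ↥L) (hS4 : ¬ Involves (Equiv.Perm (Fin 4)) ↥L) (hU : IsPGroup 2 U)
    (hUL : U ≤ L) (hodd : Odd (U.relIndex L)) (hZM : normalizer (zTwo U : Set G) ≤ M)
    (hJM : normalizer (jTwo U : Set G) ≤ M) : L ≤ M := by
  have : Fact (Nat.Prime 2) := ⟨Nat.prime_two⟩
  set S' : Sylow 2 ↥L := (hU.of_equiv (subgroupOfEquivOfLe hUL).symm).toSylow (p := 2) (by
    intro h2; exact Nat.not_even_iff_odd.2 hodd (even_iff_two_dvd.2 h2)) with hS'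
  set Q := pCoreOf 2 L with hQ
  have hQU : Q ≤ U := by
    rintro _ ⟨x, hx, rfl⟩
    exact (CfsgLib.Cores.pCore_le_sylow S' hx : (x : G) ∈ U)
  have hZQ : zTwo U ≤ zTwo Q := fun z hz =>
    ⟨inf_centralizer_pCoreOf_le hc ⟨hUL hz.1, mem_centralizer_iff.2 fun q hq => hz.2.2 q (hQU hq)⟩,
      hz.2.1, fun q hq => hz.2.2 q (hQU hq)⟩
  set W := conjSup L (zTwo U) with hW
  have hLQ : L ≤ normalizer (Q : Set G) := CfsgLib.LocalEven.le_normalizer_pCoreOf 2 L
  have hWZ : W ≤ zTwo Q := conjSup_le hZQ (hLQ.trans (normalizer_le_normalizer_zTwo Q))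
  have hWsq : ∀ v ∈ W, v * v = 1 := fun v hv => (hWZ hv).2.1
  have hWU : W ≤ U := fun v hv => hQU (hWZ hv).1
  have hLW : L ≤ normalizer (W : Set G) := le_normalizer_conjSup L _
  have hsp : Sparse W L := sparse_conjSup hS4 hU hUL hodd hWsq
  have hJC : jTwo U ≤ centralizer (W : Set G) := jTwo_le_of_forall fun A hA => by
    have h1 : idx A W ≤ idx W A := idx_le_of_isMaxEl hA hWU hWsq
    have h2 : idx W A * idx W A ≤ idx A W := hsp A (hA.1.trans hUL) (hA.1.trans (hUL.trans hLW))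
      fun x hx => by rw [hA.2.1 x hx]; exact one_mem _
    have h3 : idx W A = 1 := le_antisymm
      (Nat.le_of_mul_le_mul_left (by rw [mul_one]; exact h2.trans h1) (idx_pos W A)) (idx_pos W A)
    exact idx_eq_one_iff.1 h3
  set K := (centralizer (W : Set G)).subgroupOf L with hK
  have hKn : K.Normal := ⟨fun c hc g => by
    show (g : G) * c * (g : G)⁻¹ ∈ centralizer (W : Set G)
    have h := conj_mem_cj (g := (g : G)) (show (c : G) ∈ centralizer (W : Set G) from hc)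
    rwa [← cj_centralizer, cj_eq_self (hLW g.2)] at h⟩
  obtain ⟨T', hT'⟩ := CfsgLib.Transfer.exists_sylow_map_eq_inf K S'
  have htop := Sylow.normalizer_sup_eq_top T'
  rw [hT'] at htop
  have hKM : K ≤ M.subgroupOf L := by
    intro c hc
    refine hZM (mem_normalizer_of_cj_le ?_)
    rintro _ ⟨z, hz, rfl⟩
    show (c : G) * z * (c : G)⁻¹ ∈ zTwo U
    rw [← (show z * (c : G) = (c : G) * z from mem_centralizer_iff.1 hc z (le_conjSup _ _ hz)),
      mul_inv_cancel_right]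
    exact hz
  have hNM : normalizer (((S' : Subgroup ↥L) ⊓ K : Subgroup ↥L) : Set ↥L) ≤ M.subgroupOf L := by
    intro y hy
    refine hJM ?_
    rw [← jTwo_eq_of_le (S := U) (T := U ⊓ centralizer (W : Set G)) inf_le_left
      (le_inf (jTwo_le U) hJC)]
    refine normalizer_le_normalizer_jTwo _ (mem_normalizer_of_cj_le ?_)
    rintro _ ⟨x, ⟨hxU, hxC⟩, rfl⟩
    have h := CfsgLib.LocalEven.conj_mem_of_mem_normalizer hy
      (show (⟨x, hUL hxU⟩ : ↥L) ∈ (S' : Subgroup ↥L) ⊓ K from ⟨hxU, hxC⟩)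
    exact ⟨h.1, h.2⟩
  intro x hx
  exact (sup_le hNM hKM) (htop.ge (mem_top (⟨x, hx⟩ : ↥L)))

/-- A dominant subgroup contains every 2-local subgroup over each of its Sylow 2-subgroups of `G`. -/
def Dominant (M : Subgroup G) : Prop :=
  IsTwoLocal M ∧ (∃ S : Sylow 2 G, (S : Subgroup G) ≤ M) ∧
    ∀ S : Sylow 2 G, (S : Subgroup G) ≤ M → ∀ L : Subgroup G, IsTwoLocal L → (S : Subgroup G) ≤ L →
      L ≤ M

theorem exists_local_over_sylow (hloc : TameLocals G) (S : Sylow 2 G) (hne : (S : Subgroup G) ≠ ⊥) :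
    ∃ N : Subgroup G, IsTwoLocal N ∧ (S : Subgroup G) ≤ N ∧
      ∀ L : Subgroup G, IsTwoLocal L → (S : Subgroup G) ≤ L → L ≤ N := by
  have : Fact (Nat.Prime 2) := ⟨Nat.prime_two⟩
  set T : Subgroup G := (S : Subgroup G) with hT
  have hTp : IsPGroup 2 T := S.2
  have hodd : ∀ L : Subgroup G, T ≤ L → Odd (T.relIndex L) := fun L hL =>
    (Nat.not_even_iff_odd.1 fun h => S.not_dvd_index (even_iff_two_dvd.1 h)).of_dvd_nat
      ⟨L.index, (Subgroup.relIndex_mul_index hL).symm⟩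
  have hZ : zTwo T ≠ ⊥ := zTwo_ne_bot hTp hne
  have hJne : jTwo T ≠ ⊥ := fun h => hZ (le_bot_iff.1 (zTwo_le_jTwo.trans h.le))
  have hJp : IsPGroup 2 (jTwo T : Subgroup G) := hTp.to_le (jTwo_le T)
  set N := normalizer (jTwo T : Set G) with hN
  have hTN : T ≤ N := Subgroup.le_normalizer.trans (normalizer_le_normalizer_jTwo T)
  set W := conjSup N (zTwo T) with hW
  have hZJ : zTwo T ≤ zTwo (jTwo T) := fun z hz =>
    ⟨zTwo_le_jTwo hz, hz.2.1, fun j hj => hz.2.2 j (jTwo_le T hj)⟩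
  have hWZ : W ≤ zTwo (jTwo T) := conjSup_le hZJ (normalizer_le_normalizer_zTwo _)
  have hWT : W ≤ T := fun v hv => jTwo_le T (hWZ hv).1
  have hWsq : ∀ v ∈ W, v * v = 1 := fun v hv => (hWZ hv).2.1
  have hNW : N ≤ normalizer (W : Set G) := le_normalizer_conjSup N _
  obtain ⟨hNsol, -, hNS4⟩ := hloc N ⟨_, hJp, hJne, rfl⟩
  have hsp : Sparse W T := (sparse_conjSup hNS4 hTp hTN (hodd N hTN) hWsq).mono hTN
  refine ⟨normalizer (W : Set G), ⟨W, hTp.to_le hWT,
    fun h => hZ (le_bot_iff.1 ((le_conjSup N _).trans h.le)), rfl⟩, hTN.trans hNW, fun L hL hTL => ?_⟩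
  obtain ⟨hsol, hc, hS4⟩ := hloc L hL
  refine le_normalizer_aux (Nat.card L) L T W le_rfl hsol hS4
    ⟨pCoreOf 2 L, ?_, CfsgLib.LocalEven.le_normalizer_pCoreOf 2 L, inf_centralizer_pCoreOf_le hc⟩
    hTp hTL (hodd L hTL) hWsq hWT (hTN.trans hNW) hsp
    (fun v hv => mem_centralizer_iff.2 (hWZ hv).2.2) (inf_le_right.trans hNW)
  have hp : IsPGroup 2 ↥(T ⊔ pCoreOf 2 L) :=
    hTp.to_sup_of_normal_right' (CfsgLib.LocalEven.isPGroup_pCoreOf 2 L)
      (hTL.trans (CfsgLib.LocalEven.le_normalizer_pCoreOf 2 L))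
  exact le_sup_right.trans (S.3 hp le_sup_left).le

theorem exists_dominant (hloc : TameLocals G) (S : Sylow 2 G) (hne : (S : Subgroup G) ≠ ⊥) :
    ∃ M : Subgroup G, Dominant M ∧ (S : Subgroup G) ≤ M := by
  obtain ⟨M, hM, hSM, hmax⟩ := exists_local_over_sylow hloc S hne
  refine ⟨M, ⟨hM, ⟨S, hSM⟩, fun S' hS' L hL hSL => ?_⟩, hSM⟩
  have hne' : (S' : Subgroup G) ≠ ⊥ := fun h => hne (Subgroup.card_eq_one.1
    ((Nat.card_congr (S.equiv S').toEquiv).trans (Subgroup.card_eq_one.2 h)))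
  obtain ⟨N, hN, -, hmax'⟩ := exists_local_over_sylow hloc S' hne'
  exact (hmax' L hL hSL).trans (hmax N hN (hSM.trans (hmax' M hM hS')))

/-- A dominant subgroup contains the normaliser of each of its nontrivial 2-subgroups. -/
theorem Dominant.normalizer_le (hloc : TameLocals G) {M : Subgroup G} (hM : Dominant M)
    {T₀ : Subgroup G} (hT₀ : IsPGroup 2 T₀) (hne₀ : T₀ ≠ ⊥) (hT₀M : T₀ ≤ M) :
    normalizer (T₀ : Set G) ≤ M := by
  have : Fact (Nat.Prime 2) := ⟨Nat.prime_two⟩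
  obtain ⟨S₀, hS₀⟩ := hM.2.1
  suffices h : ∀ (k : ℕ) (T U : Subgroup G), IsPGroup 2 T → T ≠ ⊥ → T ≤ M → IsPGroup 2 U →
      U ≤ normalizer (T : Set G) ⊓ M → Nat.card (S₀ : Subgroup G) ≤ Nat.card U + k →
      normalizer (T : Set G) ≤ M from
    h (Nat.card (S₀ : Subgroup G)) T₀ ⊥ hT₀ hne₀ hT₀M IsPGroup.of_bot bot_le (Nat.le_add_left _ _)
  intro k
  induction k using Nat.strong_induction_on with
  | _ k ih =>
  intro T U hT hne hTM hU hUle hk
  set D := normalizer (T : Set G) ⊓ M with hD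
  -- a Sylow 2-subgroup of `D` over `U`
  obtain ⟨P, hUP⟩ := (hU.of_equiv (subgroupOfEquivOfLe hUle).symm).exists_le_sylow
  set U₁ := (P : Subgroup ↥D).map D.subtype with hU₁
  have hU₁p : IsPGroup 2 U₁ := P.2.map _
  have hU₁D : U₁ ≤ D := Subgroup.map_subtype_le _
  have hUU₁ : U ≤ U₁ := fun x hx => ⟨⟨x, hUle hx⟩, hUP hx, rfl⟩
  have hmaxU₁ : ∀ R : Subgroup G, IsPGroup 2 R → U₁ ≤ R → R ≤ D → R = U₁ := by
    intro R hR h1 h2
    have h3 : R.subgroupOf D = (P : Subgroup ↥D) :=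
      P.3 (hR.of_equiv (subgroupOfEquivOfLe h2).symm) (fun x hx => h1 ⟨x, hx, rfl⟩)
    rw [hU₁, ← h3, Subgroup.map_subgroupOf_eq_of_le h2]
  have hTU₁ : T ≤ U₁ := by
    have hTD : T ≤ D := le_inf Subgroup.le_normalizer hTM
    have hp : IsPGroup 2 ↥(U₁ ⊔ T) := hU₁p.to_sup_of_normal_right' hT (hU₁D.trans inf_le_left)
    exact le_sup_right.trans (hmaxU₁ _ hp le_sup_left (sup_le hU₁D hTD)).le
  -- a Sylow 2-subgroup of `G` inside `M` over `U₁`
  obtain ⟨Q, hQ⟩ := (hU₁p.of_equiv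
    (subgroupOfEquivOfLe (hU₁D.trans inf_le_right)).symm).exists_le_sylow
  set S₁ := (Q : Subgroup ↥M).map M.subtype with hS₁
  have hS₁p : IsPGroup 2 S₁ := Q.2.map _
  have hS₁card : Nat.card S₁ = Nat.card (S₀ : Subgroup G) := by
    rw [hS₁, Subgroup.card_map_of_injective M.subtype_injective,
      Nat.card_congr (Q.equiv (S₀.subtype hS₀)).toEquiv]
    exact Nat.card_congr (subgroupOfEquivOfLe hS₀).toEquiv
  obtain ⟨S, hS₁S⟩ := hS₁p.exists_le_sylow
  have hS₁eq : S₁ = (S : Subgroup G) := Subgroup.eq_of_le_of_card_ge hS₁S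
    (by rw [hS₁card]; exact (Nat.card_congr (S.equiv S₀).toEquiv).le)
  have hSM : (S : Subgroup G) ≤ M := hS₁eq ▸ Subgroup.map_subtype_le _
  have hU₁S : U₁ ≤ (S : Subgroup G) :=
    hS₁eq ▸ fun x hx => ⟨⟨x, (hU₁D hx).2⟩, hQ hx, rfl⟩
  by_cases hfull : (S : Subgroup G) = U₁
  · exact hM.2.2 S hSM _ ⟨T, hT, hne, rfl⟩ (hfull.le.trans (hU₁D.trans inf_le_left))
  set U₂ := (S : Subgroup G) ⊓ normalizer (U₁ : Set G) with hU₂
  have hlt : U₁ < U₂ := lt_of_le_of_ne (le_inf hU₁S Subgroup.le_normalizer) fun h =>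
    hfull (CfsgLib.LocalEven.eq_of_inf_normalizer_le S.2 hU₁S h.ge).symm
  have hcard : Nat.card U₁ < Nat.card U₂ := lt_of_le_of_ne (Subgroup.card_le_of_le hlt.le)
    fun h => hlt.ne (Subgroup.eq_of_le_of_card_ge hlt.le h.ge)
  have hcU : Nat.card U ≤ Nat.card U₁ := Subgroup.card_le_of_le hUU₁
  have hsucc : ∀ X : Subgroup G, X ≤ U₁ → X ≠ ⊥ →
      normalizer (U₁ : Set G) ≤ normalizer (X : Set G) → normalizer (X : Set G) ≤ M := by
    intro X hX hXne hN
    have hk' : 0 < k := by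
      rcases Nat.eq_zero_or_pos k with h | h
      · have hc₂ : Nat.card U₂ ≤ Nat.card (S : Subgroup G) := Subgroup.card_le_of_le inf_le_left
        have hc₃ : Nat.card (S : Subgroup G) = Nat.card (S₀ : Subgroup G) :=
          Nat.card_congr (S.equiv S₀).toEquiv
        omega
      · exact h
    exact ih (k - 1) (by omega) X U₂ (hU₁p.to_le hX) hXne (hX.trans (hU₁D.trans inf_le_right))
      (S.2.to_le inf_le_left) (le_inf (inf_le_right.trans hN) (inf_le_left.trans hSM)) (by omega)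
  have hU₁ne : U₁ ≠ ⊥ := fun h => hne (le_bot_iff.1 (hTU₁.trans h.le))
  have hZne : zTwo U₁ ≠ ⊥ := zTwo_ne_bot hU₁p hU₁ne
  have hNU : normalizer (U₁ : Set G) ≤ M := hsucc U₁ le_rfl hU₁ne le_rfl
  obtain ⟨hsol, hc, hS4⟩ := hloc _ ⟨T, hT, hne, rfl⟩
  -- `U₁` is a Sylow 2-subgroup of the normaliser of `T`
  have hU₁N : U₁ ≤ normalizer (T : Set G) := hU₁D.trans inf_le_left
  obtain ⟨R, hR⟩ := (hU₁p.of_equiv (subgroupOfEquivOfLe hU₁N).symm).exists_le_sylow
  set R₁ := (R : Subgroup ↥(normalizer (T : Set G))).map (Subgroup.subtype _) with hR₁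
  have hU₁R : U₁ ≤ R₁ := fun x hx => ⟨⟨x, hU₁N hx⟩, hR hx, rfl⟩
  have hR₁p : IsPGroup 2 R₁ := R.2.map _
  have heq : U₁ = R₁ := CfsgLib.LocalEven.eq_of_inf_normalizer_le hR₁p hU₁R (le_of_eq
    (hmaxU₁ _ (hR₁p.to_le inf_le_left) (le_inf hU₁R Subgroup.le_normalizer)
      (le_inf (inf_le_left.trans (Subgroup.map_subtype_le _)) (inf_le_right.trans hNU))))
  refine le_of_normalizers_le hsol hc hS4 hU₁p hU₁N ?_
    (hsucc (zTwo U₁) (fun z hz => hz.1) hZne (normalizer_le_normalizer_zTwo U₁))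
    (hsucc (jTwo U₁) (jTwo_le U₁) (fun h => hZne (le_bot_iff.1 (zTwo_le_jTwo.trans h.le)))
      (normalizer_le_normalizer_jTwo U₁))
  rw [heq, hR₁, Subgroup.relIndex, Subgroup.subgroupOf,
    Subgroup.comap_map_eq_self_of_injective (Subgroup.subtype_injective _)]
  exact Nat.not_even_iff_odd.1 fun h => R.not_dvd_index (even_iff_two_dvd.1 h)

/-- Maximal 2-local subgroups are strongly embedded. -/
theorem isStronglyEmbedded_of_tameLocals (hO : pCore 2 G = ⊥) (hloc : TameLocals G) {M : Subgroup G}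
    (hM : IsMaximalTwoLocal M) : IsStronglyEmbedded M := by
  have : Fact (Nat.Prime 2) := ⟨Nat.prime_two⟩
  obtain ⟨⟨T, hT, hne, hMT⟩, hmax⟩ := hM
  obtain ⟨S₀, hS₀⟩ := hT.exists_le_sylow
  obtain ⟨N, hN, hSN⟩ := exists_dominant hloc S₀ fun h => hne (le_bot_iff.1 (hS₀.trans h.le))
  have hle : M ≤ N := hMT ▸ hN.normalizer_le hloc hT hne (hS₀.trans hSN)
  have hNM : N = M := hmax N hN.1 hle
  subst hNM
  clear hle hmax
  have hTM : T ≤ N := hMT ▸ Subgroup.le_normalizer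
  refine ⟨?_, ?_, ?_⟩
  · intro htop
    have hn : T.Normal := Subgroup.normalizer_eq_top_iff.1 (hMT ▸ htop)
    exact hne (le_bot_iff.1 ((CfsgLib.Cores.le_pCore hT).trans hO.le))
  · have : Nontrivial ↥T := (Subgroup.nontrivial_iff_ne_bot T).2 hne
    obtain ⟨n, hn, hcard⟩ := hT.nontrivial_iff_card.1 this
    exact even_iff_two_dvd.2 ((hcard ▸ dvd_pow_self 2 hn.ne').trans (Subgroup.card_dvd_of_le hTM))
  intro g hg
  rw [← Nat.not_even_iff_odd, even_iff_two_dvd]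
  set I : Subgroup G := N ⊓ N.map (MulAut.conj g).toMonoidHom with hI
  intro h2
  obtain ⟨t, ht⟩ := exists_prime_orderOf_dvd_card' 2 h2
  have hX₀ : IsPGroup 2 ↥(zpowers t) := IsPGroup.of_card (n := 1) (by rw [Nat.card_zpowers, ht, pow_one])
  obtain ⟨P, hP⟩ := hX₀.exists_le_sylow
  set X := (P : Subgroup ↥I).map I.subtype with hX
  have hXp : IsPGroup 2 X := P.2.map _
  have hXI : X ≤ I := Subgroup.map_subtype_le _
  have hXne : X ≠ ⊥ := by
    intro h
    have hmem : (t : G) ∈ X := ⟨t, hP (mem_zpowers t), rfl⟩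
    rw [h, Subgroup.mem_bot] at hmem
    have : t = 1 := Subtype.ext hmem
    rw [this, orderOf_one] at ht
    omega
  have hconj : ∀ Y : Subgroup G, IsPGroup 2 Y → Y ≠ ⊥ → Y ≤ cj g N →
      normalizer (Y : Set G) ≤ cj g N := by
    intro Y hY hYne hYN n hn
    refine mem_cj.2 (hN.normalizer_le hloc (T₀ := cj g⁻¹ Y) (hY.map _) ?_ ?_ (mem_normalizer_of_cj_le ?_))
    · intro h
      refine hYne ?_
      rw [← cj_one Y, ← mul_inv_cancel g, ← cj_cj, h, cj, Subgroup.map_bot]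
    · exact (cj_mono _ hYN).trans (by rw [cj_cj, inv_mul_cancel, cj_one])
    · rw [cj_cj, show g⁻¹ * n * g * g⁻¹ = g⁻¹ * n by group, ← cj_cj, cj_eq_self hn]
  obtain ⟨S, hXS⟩ := hXp.exists_le_sylow
  have hXeq : X = (S : Subgroup G) := by
    refine CfsgLib.LocalEven.eq_of_inf_normalizer_le S.2 hXS fun x hx => ?_
    have hle : (S : Subgroup G) ⊓ normalizer (X : Set G) ≤ I := le_inf
      (inf_le_right.trans (hN.normalizer_le hloc hXp hXne (hXI.trans inf_le_left)))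
      (inf_le_right.trans (hconj X hXp hXne (hXI.trans inf_le_right)))
    have h3 : ((S : Subgroup G) ⊓ normalizer (X : Set G)).subgroupOf I = (P : Subgroup ↥I) :=
      P.3 ((S.2.to_le inf_le_left).of_equiv (subgroupOfEquivOfLe hle).symm) fun y hy =>
        ⟨hXS ⟨y, hy, rfl⟩, Subgroup.le_normalizer ⟨y, hy, rfl⟩⟩
    exact ⟨⟨x, hle hx⟩, h3.le hx, rfl⟩
  have hSI : (S : Subgroup G) ≤ I := hXeq ▸ hXI
  have hTS : T ≤ (S : Subgroup G) := by
    have hp : IsPGroup 2 ↥((S : Subgroup G) ⊔ T) :=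
      S.2.to_sup_of_normal_right' hT ((hSI.trans inf_le_left).trans hMT.le)
    exact le_sup_right.trans (S.3 hp le_sup_left).le
  have hNg : N ≤ cj g N := hMT.le.trans (hconj T hT hne (hTS.trans (hSI.trans inf_le_right)))
  have heq : cj g N = N :=
    (Subgroup.eq_of_le_of_card_ge hNg (CfsgLib.LocalEven.card_map_conj N g).le).symm
  set R := pCoreOf 2 N with hR
  have hTR : T ≤ R := CfsgLib.LocalEven.le_pCoreOf hTM hT hMT.le
  apply hg
  refine hN.normalizer_le hloc (CfsgLib.LocalEven.isPGroup_pCoreOf 2 N)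
    (fun h => hne (le_bot_iff.1 (hTR.trans h.le))) (CfsgLib.LocalEven.pCoreOf_le 2 N)
    (mem_normalizer_of_cj_le ?_)
  refine CfsgLib.LocalEven.le_pCoreOf ((cj_mono g (CfsgLib.LocalEven.pCoreOf_le 2 N)).trans heq.le)
    ((CfsgLib.LocalEven.isPGroup_pCoreOf 2 N).map _) fun x hx => mem_normalizer_of_cj_le ?_
  have hx' : g⁻¹ * x * g ∈ N := mem_cj.1 (heq.ge hx)
  rw [cj_cj, show x * g = g * (g⁻¹ * x * g) by group, ← cj_cj,
    cj_eq_self (CfsgLib.LocalEven.le_normalizer_pCoreOf 2 N hx')]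

end CfsgLib.SFreeLocals
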